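import Groth.Agent.Misc4.PerfectEnvelope
import Mathlib.CategoryTheory.Triangulated.Generators

/-!
Perfect objects lie in the thick subcategory of a perfect generator.
-/

universe u

open CategoryTheory CategoryTheory.Limits CategoryTheory.Pretriangulated AlgebraicGeometry

namespace Groth.DerivedCoh.PerfFP

attribute [local instance] HasDerivedCategory.standard

theorem triangEnvelope_of_isPerfect {X : Scheme.{u}} [CompactSpace X] [QuasiSeparatedSpace X]
    {P : DCoh.D X} (hP : DCoh.IsPerfect P)
    (hgen : ∀ K : DCoh.D X, DCoh.IsQCohD K → (∀ (n : ℤ) (φ : P⟦n⟧ ⟶ K), φ = 0) → IsZero K)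
    {E : DCoh.D X} (hE : DCoh.IsPerfect E) : (ObjectProperty.singleton P).triangEnvelope E := by
  have h : ObjectProperty.singleton P = fun Y : DCoh.D X => Y = P := by
    funext Y
    exact propext ((ObjectProperty.singleton_iff _ _).trans eq_comm)
  rw [h]
  exact Groth.Misc4.PerfectEnvelope.mem_envelope P hP hgen E hE

end Groth.DerivedCoh.PerfFP
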