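import Groth.Agent.DerivedCoh.PerfFP.SplitH0Fibre

/-!
Base change of `Rf_*G` for a quasi-coherent `G` flat over the base.
-/

universe u

open CategoryTheory CategoryTheory.Limits AlgebraicGeometry

namespace Groth.DerivedCoh.PerfFP

attribute [local instance] HasDerivedCategory.standard
set_option linter.style.haveILetI false

variable {X S X' T : Scheme.{u}} {f : X ⟶ S} {g : T ⟶ S} {g' : X' ⟶ X} {f' : X' ⟶ T}

theorem nonempty_bc_flat (sq : IsPullback g' f' f g) [QuasiCompact f] [QuasiSeparated f]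
    (G : X.Modules) (hG : Coh.IsQCoh G) (hflat : FlatMod.IsFlatOver f G)
    [DCoh.HasRpush f] [DCoh.HasLpull g] [DCoh.HasRpush f'] :
    Nonempty ((DCoh.Lpull g).obj ((DCoh.Rpush f).obj (DCoh.inD X G)) ≅
      (DCoh.Rpush f').obj (DCoh.inD X' ((Scheme.Modules.pullback g').obj G))) := by
  haveI := KFlat.hasLTensorMod G
  haveI := KFlat.hasLTensorMod ((Scheme.Modules.pullback g').obj G)
  haveI : DCoh.HasLpull g' := KFlat.hasLpull _
  haveI hq : (Coh.structureModule X).IsQuasicoherent := Groth.KTheory.LocFree.isQCoh (Groth.LocFree.isFinLocFree_unit X)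
  obtain ⟨b⟩ := BaseChange.nonempty_baseChange_flatOver sq (DCoh.inD X (Coh.structureModule X))
    (Groth.Misc4.QCohDColim.isQCohD_single (Coh.structureModule X) 0) G hG hflat
  obtain ⟨l⟩ := nonempty_ltm_unit G
  obtain ⟨p⟩ := nonempty_lpull_unit g'
  obtain ⟨l'⟩ := nonempty_ltm_unit ((Scheme.Modules.pullback g').obj G)
  exact ⟨(DCoh.Lpull g).mapIso ((DCoh.Rpush f).mapIso l.symm) ≪≫ b ≪≫
    (DCoh.Rpush f').mapIso ((DCoh.LTensorMod _).mapIso p ≪≫ l')⟩

/-- supports of finitely presented modules are proper over the base of a proper morphism -/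
theorem isProperOver_support (f : X ⟶ S) [IsProper f] {G : X.Modules} (hG : CohB1.IsFP G) :
    ClSub.IsProperOver f (CohB1.support G) := by
  haveI : G.IsQuasicoherent := by have := hG; infer_instance
  refine ⟨Groth.Ega43FP2.isClosed_support _ (Groth.PropsBasic.LocFree.isFT_of_isFP _ hG), ?_⟩
  infer_instance

end Groth.DerivedCoh.PerfFP
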