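import Groth.Agent.DerivedCoh.PerfFP.Main
import Groth.Agent.DerivedCoh.TotInduction
import Groth.Agent.DerivedCoh.KFlat.LTensorGen

/-!
`Rf_*(E ⊗^L K)` is perfect for a bounded complex `K` of flat finitely presented modules with proper support.
-/

universe u

open CategoryTheory CategoryTheory.Limits CategoryTheory.Pretriangulated AlgebraicGeometry HomologicalComplex
open scoped ZeroObject

namespace Groth.DerivedCoh.PerfFP

open Groth.DerivedCoh.KFlat (T IsKFlat tot totL tmCx ltmQIso flatResolution flatResolutionAug)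
open Groth.KTheory.Perf

attribute [local instance] HasDerivedCategory.standard
set_option linter.style.haveILetI false

local notation "up" => ComplexShape.up ℤ

variable {X S : Scheme.{u}}

/-- perfect direct image -/
theorem closed_perfectPush (f : X ⟶ S) [DCoh.HasRpush f] :
    TotInduction.Closed (fun A : DCoh.D X => DCoh.IsPerfect ((DCoh.Rpush f).obj A)) where
  iso e h := isPerfect_of_iso ((DCoh.Rpush f).mapIso e) h
  zero h := isPerfect_of_isZero (PerfPush.isZero_Rpush f h)
  shift {A} n h := by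
    obtain ⟨e⟩ := Groth.Misc4.RFUpstairs.nonempty_shift_iso (Scheme.Modules.pushforward f) (DCoh.Rpush f)
      ((DCoh.pushKh f).totalRightDerivedUnit DerivedCategory.Qh (HomotopyCategory.quasiIso X.Modules up)) A n
    exact isPerfect_of_iso e (isPerfect_shift h n)
  ext {T₀} hT h₁ h₃ := by
    obtain ⟨c, hc⟩ := Groth.DAlg.RFTriangle.exists_distinguished (Scheme.Modules.pushforward f) (DCoh.Rpush f)
      ((DCoh.pushKh f).totalRightDerivedUnit DerivedCategory.Qh (HomotopyCategory.quasiIso X.Modules up)) T₀ hT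
    exact isPerfect_obj₂ _ hc h₁ h₃

/-- devissage along a bounded complex -/
theorem tot_bounded {Φ : DCoh.D X → Prop} (hΦ : TotInduction.Closed Φ) (M E : CochainComplex X.Modules ℤ) {a b : ℤ}
    (hab : DCoh.VanishesOutside E a b)
    (h : ∀ k, Φ (DCoh.toD X (tot (T X) ((single X.Modules up k).obj (E.X k)) M))) :
    Φ (DCoh.toD X (tot (T X) E M)) := by
  have hge : ∀ (d : ℕ) (k : ℤ), b < k + d → Φ (DCoh.toD X (tot (T X) (KFlat.ge E k) M)) := by
    intro d
    induction d with
    | zero =>
      intro k hk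
      refine TotInduction.tot_zero hΦ M fun p => ?_
      by_cases hp : k ≤ p
      · exact (hab p (.inr (by omega))).of_iso (@asIso _ _ _ _ (KFlat.geι E k p) (KFlat.isIso_geι E hp))
      · exact KFlat.isZero_geX E (by omega)
    | succ d ih =>
      intro k hk
      have hS : ((KFlat.geSC E k).map (totL (T X) M)).ShortExact :=
        KFlat.shortExact_totL (T X) M _ fun p q =>
          ((KFlat.geSplitting E k p).map ((T X).flip.obj (M.X q))).shortExact
      exact TotInduction.ses hΦ hS (ih (k + 1) (by omega)) (h k)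
  haveI : ∀ p, IsIso ((KFlat.geHom E a).f p) := fun p => by
    by_cases hp : a ≤ p
    · exact KFlat.isIso_geι E hp
    · exact ⟨0, (KFlat.isZero_geX E (by omega)).eq_of_src _ _,
        (hab p (.inl (by omega))).eq_of_src _ _⟩
  haveI : IsIso (KFlat.geHom E a) := HomologicalComplex.Hom.isIso_of_components _
  let e' : tot (T X) (KFlat.ge E a) M ≅ tot (T X) E M :=
    (totL (T X) M).mapIso (asIso (KFlat.geHom E a))
  exact hΦ.iso (DerivedCategory.Q.mapIso e') (hge (b + 1 - a).toNat a (by omega))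

theorem isPerfect_Rpush_ltcx (f : X ⟶ S) [LocallyOfFinitePresentation f] [QuasiCompact f] [QuasiSeparated f]
    [DCoh.HasRpush f] (E : DCoh.D X) (hE : DCoh.IsPerfect E) (K : CochainComplex X.Modules ℤ) (kl ku : ℤ)
    (hKb : DCoh.VanishesOutside K kl ku) (hKfp : ∀ i, CohB1.IsFP (K.X i))
    (hKflat : ∀ i, FlatMod.IsFlatOver f (K.X i))
    (hKsupp : ∀ i, ClSub.IsProperOver f (CohB1.support (K.X i))) [DCoh.HasLTensorCx K] :
    DCoh.IsPerfect ((DCoh.Rpush f).obj ((DCoh.LTensorCx K).obj E)) := by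
  obtain ⟨F, ⟨e⟩⟩ := exists_rep E
  let P := (flatResolution X).obj F
  haveI := KFlat.flatResolution_quasiIso F
  have hP : IsKFlat (T X) P := KFlat.flatResolution_isKFlat F
  let eP : DCoh.toD X P ≅ E := asIso (DerivedCategory.Q.map ((flatResolutionAug X).app F)) ≪≫ e
  haveI := KFlat.isIso_ltcxCounit_app K P (Duality.isKFlat_flip hP)
  let c : (DCoh.LTensorCx K).obj E ≅ DCoh.toD X (tot (T X) K P) :=
    (DCoh.LTensorCx K).mapIso eP.symm ≪≫ asIso ((KFlat.ltcxCounit K).app P) ≪≫
      DerivedCategory.Q.mapIso (Duality.brIso P K)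
  have hΦ := closed_perfectPush f
  refine hΦ.iso c.symm (tot_bounded hΦ P K hKb fun k => ?_)
  let S₀ := (single X.Modules up 0).obj (K.X k)
  let e₁ : (single X.Modules up k).obj (K.X k) ≅ S₀⟦-k⟧ :=
    (((CochainComplex.singleFunctors X.Modules).shiftIso (-k) k 0 (by omega)).app (K.X k)).symm
  haveI := KFlat.hasLTensorMod (K.X k)
  have h0 : DCoh.IsPerfect ((DCoh.Rpush f).obj (DCoh.toD X (tot (T X) S₀ P))) :=
    hΦ.iso ((DCoh.LTensorMod (K.X k)).mapIso eP.symm ≪≫ ltmQIso _ P hP ≪≫
      DerivedCategory.Q.mapIso ((PerfPush.totSingleRight P (K.X k)).symm ≪≫ Duality.brIso P S₀))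
      (isPerfect_Rpush_ltm_fp f E hE (K.X k) (hKfp k) (hKflat k) (hKsupp k))
  exact hΦ.iso ((DerivedCategory.Q.commShiftIso (-k)).symm.app _ ≪≫
      DerivedCategory.Q.mapIso ((CochainComplex.mapBifunctorShift₁Iso S₀ P (T X) (-k)).symm ≪≫
        (totL (T X) P).mapIso e₁.symm))
    (hΦ.shift (-k) h0)

end Groth.DerivedCoh.PerfFP
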