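import Groth.Agent.DerivedCoh.PerfFP.Main
import Groth.Agent.DerivedCoh.RelAmp.PushAmp
import Groth.Agent.DerivedCoh.RelAmp.FlatFP
import Groth.Agent.DerivedCoh.StalkAmp.Perfect
import Groth.Agent.DerivedCoh.Fibre.Concentrated
import Groth.Agent.Misc4.RFSingle
import Groth.Agent.Misc4.RFBounded

/-!
Direct images without higher cohomology of flat families are finite locally free.
-/

universe u

open CategoryTheory CategoryTheory.Limits CategoryTheory.Pretriangulated AlgebraicGeometry HomologicalComplex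
open scoped ZeroObject

namespace Groth.DerivedCoh.PerfFP

open Groth.DerivedCoh.KFlat (T IsKFlat tmCx ltmQIso)
open Groth.KTheory.Perf

attribute [local instance] HasDerivedCategory.standard
set_option linter.style.haveILetI false

local notation "up" => ComplexShape.up ℤ

variable {X S : Scheme.{u}}

theorem isPerfect_Rpush_inD (f : X ⟶ S) [LocallyOfFinitePresentation f] [QuasiCompact f] [QuasiSeparated f]
    [DCoh.HasRpush f] (G : X.Modules) (hG : CohB1.IsFP G) (hflat : FlatMod.IsFlatOver f G)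
    (hsupp : ClSub.IsProperOver f (CohB1.support G)) :
    DCoh.IsPerfect ((DCoh.Rpush f).obj (DCoh.inD X G)) := by
  haveI := KFlat.hasLTensorMod G
  have hO := Groth.LocFree.isFinLocFree_unit X
  let P := (single X.Modules up 0).obj (Coh.structureModule X)
  have hP : IsKFlat (T X) P := Fibre.isKFlat_single hO 0
  let e : (DCoh.LTensorMod G).obj (DCoh.inD X (Coh.structureModule X)) ≅ DCoh.inD X G :=
    (DCoh.LTensorMod G).mapIso (RelAmp.singleToDIso _) ≪≫ ltmQIso G P hP ≪≫
      DerivedCategory.Q.mapIso ((singleMapHomologicalComplex ((T X).flip.obj G) up 0).app _ ≪≫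
        (single X.Modules up 0).mapIso (Groth.CohTwo.LocFreeDual.lUnit.app G)) ≪≫
      (RelAmp.singleToDIso G).symm
  exact isPerfect_of_iso ((DCoh.Rpush f).mapIso e)
    (isPerfect_Rpush_ltm_fp f _ (PCoh.isPerfect_inD hO) G hG hflat hsupp)

theorem isFinLocFree_push (f : X ⟶ S) [LocallyOfFinitePresentation f] [QuasiCompact f] [QuasiSeparated f]
    [HasInjectiveResolutions X.Modules]
    (G : X.Modules) (hG : CohB1.IsFP G) (hflat : FlatMod.IsFlatOver f G)
    (hsupp : ClSub.IsProperOver f (CohB1.support G))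
    (hvan : ∀ i : ℕ, 0 < i → IsZero ((Coh.Rpush f i).obj G)) :
    FlatMod.IsFinLocFree ((Coh.push f).obj G) := by
  haveI : DCoh.HasRpush f := Groth.Misc4.PushRestrict.hasRightDerived _
  let β := (DCoh.pushKh f).totalRightDerivedUnit DerivedCategory.Qh (HomotopyCategory.quasiIso X.Modules up)
  let R := (DCoh.Rpush f).obj (DCoh.inD X G)
  haveI hge : R.IsGE 0 := Groth.Misc4.RFBounded.isGE_obj (Scheme.Modules.pushforward f) (DCoh.Rpush f) β _ 0
  have hz : ∀ q : ℤ, q ≠ 0 → IsZero ((DerivedCategory.homologyFunctor S.Modules q).obj R) := fun q hq => by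
    rcases lt_or_gt_of_ne hq with h | h
    · exact DerivedCategory.isZero_of_isGE R 0 q h
    · obtain ⟨k, rfl⟩ := Int.eq_ofNat_of_zero_le h.le
      obtain ⟨e⟩ := Groth.Misc4.RFBounded.nonempty_homology_single (Scheme.Modules.pushforward f) (DCoh.Rpush f) β
        G 0 k k (zero_add _)
      exact (hvan k (by omega)).of_iso e
  haveI := Groth.Misc4.RFSingle.isIso_compSingle (Scheme.Modules.pushforward f) (DCoh.Rpush f) β G hz
  let eR : DCoh.inD S ((Coh.push f).obj G) ≅ R :=
    asIso ((Groth.Misc4.RFSingle.compSingle (Scheme.Modules.pushforward f) (DCoh.Rpush f) β).app G)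
  haveI : G.IsQuasicoherent := by
    have := hG
    infer_instance
  -- tor amplitude `[0, 0]`
  have hA : ∀ x, RelAmp.AmpAt f 0 0 (DCoh.inD X G) x := fun x => RelAmp.AmpAt.of_iso
    ((RelAmp.hasTorAmplitude_iff _ 0 0).1 ((RelAmp.hasTorAmplitude_single_iff f G).2 hflat) x)
    (RelAmp.singleToDIso G).symm
  haveI : R.IsLE 0 := (DerivedCategory.isLE_iff _ _).2 fun q hq => hz q (by omega)
  obtain ⟨F, ⟨eF⟩⟩ := exists_rep R
  have hflatR : DCoh.HasFlatAmplitudeIn 0 0 R := StalkAmp.flatAmp_of_stalkAmp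
    (StalkAmp.HasStalkAmp.of_iso eF ((StalkAmp.hasTorAmplitude_id_iff F 0 0).1
      ((RelAmp.hasTorAmplitude_iff F 0 0).2 fun y =>
        (RelAmp.ampAt_Rpush f (𝟙 S) f (Category.comp_id f) (DCoh.inD X G)
          (Groth.Misc4.QCohDColim.isQCohD_single G 0) hA 0 y).of_iso eF.symm)))
  have hperf := (StalkAmp.hasPerfectAmplitudeIn_iff R 0 0).1 ((StalkAmp.perfectAmplitude_iff R 0 0 le_rfl).2
    ⟨PCoh.isPseudoCoherentD_of_isPerfect (isPerfect_Rpush_inD f G hG hflat hsupp) _, hflatR⟩)
  refine Fibre.isFinLocFree_local fun s => ?_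
  obtain ⟨V, hV, E, h0, hfl, ⟨e⟩⟩ := hperf s
  refine ⟨V, hV, ?_⟩
  let a : DCoh.inD V (((Coh.push f).obj G).restrict V.ι) ≅ DCoh.toD _ E :=
    (PCoh.rdInDIso V.ι _).symm ≪≫ (Rd V.ι).mapIso eR ≪≫ e
  let hE : E.homology 0 ≅ E.X 0 :=
    (ShortComplex.HomologyData.ofZeros _ ((h0 _ (.inl (by simp))).eq_of_src _ _)
      ((h0 _ (.inr (by simp))).eq_of_tgt _ _)).left.homologyIso
  exact Groth.KTheory.LocFree.isFinLocFree_of_iso
    (hE.symm ≪≫ ((DerivedCategory.homologyFunctorFactors _ 0).app E).symm ≪≫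
      (DerivedCategory.homologyFunctor _ 0).mapIso a.symm ≪≫
      (DerivedCategory.singleFunctorCompHomologyFunctorIso _ 0).app _) (hfl 0)

end Groth.DerivedCoh.PerfFP
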