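import Groth.Agent.DerivedCoh.PCoh.Perfect
import Groth.Agent.DerivedCoh.KFlat.LTensorMod
import Groth.Agent.DerivedCoh.KFlat.Amplitude
import Groth.Agent.DerivedCoh.KFlat.SchemeFactor
import Groth.Agent.DAlg.RFTriangle
import Groth.Agent.KTheory.PerfCoh
import Groth.Agent.DerivedCoh.PerfPush.OpenSupp
import Mathlib.CategoryTheory.Triangulated.Generators

/-!
The objects `M` with `Rf_*(M ⊗^L G)` perfect form a thick subcategory.
-/

universe u

open CategoryTheory CategoryTheory.Limits CategoryTheory.Pretriangulated AlgebraicGeometry HomologicalComplex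
open scoped ZeroObject

namespace Groth.DerivedCoh.PerfFP

open Groth.DerivedCoh.KFlat (T IsKFlat tmCx ltmQIso flatResolution flatResolutionAug)
open Groth.KTheory.Perf

attribute [local instance] HasDerivedCategory.standard
set_option linter.style.haveILetI false

local notation "up" => ComplexShape.up ℤ

variable {X S : Scheme.{u}} (f : X ⟶ S) (G : X.Modules) [DCoh.HasRpush f] [DCoh.HasLTensorMod G]

/-- `Rf_*(M ⊗^L G)` is perfect -/
def Test : ObjectProperty (DCoh.D X) := fun M => DCoh.IsPerfect ((DCoh.Rpush f).obj ((DCoh.LTensorMod G).obj M))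

instance : (Test f G).IsClosedUnderIsomorphisms :=
  ⟨fun e h => isPerfect_of_iso ((DCoh.Rpush f).mapIso ((DCoh.LTensorMod G).mapIso e)) h⟩

theorem test_retract {M N : DCoh.D X} (r : Retract M N) (h : Test f G N) : Test f G M := by
  let F := DCoh.LTensorMod G ⋙ DCoh.Rpush f
  let r' := r.map F
  haveI : IsSplitMono r'.i := ⟨⟨⟨r'.r, r'.retract⟩⟩⟩
  obtain ⟨Z, p, δ, hT⟩ := distinguished_cocone_triangle r'.i
  have hδ : δ = 0 := by
    have h0 : δ ≫ r'.i⟦(1 : ℤ)⟧' = 0 := comp_distTriang_mor_zero₃₁ _ hT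
    have h1 := congrArg (· ≫ r'.r⟦(1 : ℤ)⟧') h0
    simp only [Category.assoc, zero_comp, ← Functor.map_comp, r'.retract] at h1
    rwa [CategoryTheory.Functor.map_id, Category.comp_id] at h1
  haveI := HasBinaryBiproducts.of_hasBinaryProducts (C := DCoh.D S)
  obtain ⟨e, -, -⟩ := exists_iso_binaryBiproduct_of_distTriang (Triangle.mk r'.i p δ) hT hδ
  exact (PCoh.isPerfect_summands (F.obj M) Z (isPerfect_of_iso e h)).1

/-- two out of three -/
theorem exists_test_triangle (T₀ : Triangle (DCoh.D X)) (hT : T₀ ∈ distTriang _) :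
    ∃ (T' : Triangle (DCoh.D S)), T' ∈ distTriang _ ∧
      Nonempty (T'.obj₁ ≅ (DCoh.Rpush f).obj ((DCoh.LTensorMod G).obj T₀.obj₁)) ∧
      Nonempty (T'.obj₂ ≅ (DCoh.Rpush f).obj ((DCoh.LTensorMod G).obj T₀.obj₂)) ∧
      Nonempty (T'.obj₃ ≅ (DCoh.Rpush f).obj ((DCoh.LTensorMod G).obj T₀.obj₃)) := by
  obtain ⟨K, L, φ, ⟨e⟩⟩ := (DerivedCategory.mem_distTriang_iff T₀).1 hT
  let C₁ := (flatResolution X).obj K
  let C₂ := (flatResolution X).obj L
  let φ' : C₁ ⟶ C₂ := (flatResolution X).map φ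
  have h₁ : IsKFlat (T X) C₁ := KFlat.flatResolution_isKFlat K
  have h₂ : IsKFlat (T X) C₂ := KFlat.flatResolution_isKFlat L
  have h₃ : IsKFlat (T X) (CochainComplex.mappingCone φ') := h₁.mappingCone (T X) φ' h₂
  haveI := KFlat.flatResolution_quasiIso K
  haveI := KFlat.flatResolution_quasiIso L
  let a₁ : DerivedCategory.Q.obj C₁ ≅ DerivedCategory.Q.obj K :=
    asIso (DerivedCategory.Q.map ((flatResolutionAug X).app K))
  let a₂ : DerivedCategory.Q.obj C₂ ≅ DerivedCategory.Q.obj L :=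
    asIso (DerivedCategory.Q.map ((flatResolutionAug X).app L))
  let e' := isoTriangleOfIso₁₂ (DerivedCategory.Q.mapTriangle.obj (CochainComplex.mappingCone.triangle φ'))
    (DerivedCategory.Q.mapTriangle.obj (CochainComplex.mappingCone.triangle φ))
    (DerivedCategory.mappingCone_triangle_distinguished φ') (DerivedCategory.mappingCone_triangle_distinguished φ)
    a₁ a₂ (by
      show DerivedCategory.Q.map φ' ≫ DerivedCategory.Q.map ((flatResolutionAug X).app L) =
        DerivedCategory.Q.map ((flatResolutionAug X).app K) ≫ DerivedCategory.Q.map φ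
      rw [← Functor.map_comp, ← Functor.map_comp]
      exact congrArg _ ((flatResolutionAug X).naturality φ))
  let ψ := (tmCx G).map φ'
  let T₁ := DerivedCategory.Q.mapTriangle.obj (CochainComplex.mappingCone.triangle ψ)
  obtain ⟨c, hc⟩ := Groth.DAlg.RFTriangle.exists_distinguished (Scheme.Modules.pushforward f) (DCoh.Rpush f)
    ((DCoh.pushKh f).totalRightDerivedUnit DerivedCategory.Qh (HomotopyCategory.quasiIso X.Modules up)) T₁
    (DerivedCategory.mappingCone_triangle_distinguished ψ)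
  have j : ∀ {A : DCoh.D X} (C : CochainComplex X.Modules ℤ) (_ : IsKFlat (T X) C)
      (_ : DerivedCategory.Q.obj C ≅ A), Nonempty ((DCoh.Rpush f).obj (DerivedCategory.Q.obj ((tmCx G).obj C)) ≅
        (DCoh.Rpush f).obj ((DCoh.LTensorMod G).obj A)) := fun C hC i =>
    ⟨(DCoh.Rpush f).mapIso ((ltmQIso G C hC).symm ≪≫ (DCoh.LTensorMod G).mapIso i)⟩
  refine ⟨_, hc, j C₁ h₁ (a₁ ≪≫ (Triangle.π₁.mapIso e).symm), j C₂ h₂ (a₂ ≪≫ (Triangle.π₂.mapIso e).symm), ?_⟩
  obtain ⟨i⟩ := j (CochainComplex.mappingCone φ') h₃ (Triangle.π₃.mapIso e' ≪≫ (Triangle.π₃.mapIso e).symm)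
  exact ⟨(DCoh.Rpush f).mapIso (DerivedCategory.Q.mapIso
    (CochainComplex.mappingCone.mapHomologicalComplexIso φ' _).symm) ≪≫ i⟩

theorem test_zero {M : DCoh.D X} (hM : IsZero M) : Test f G M := by
  obtain ⟨K, ⟨a⟩⟩ := exists_rep M
  let C := (flatResolution X).obj K
  have hC : IsKFlat (T X) C := KFlat.flatResolution_isKFlat K
  haveI := KFlat.flatResolution_quasiIso K
  let b : DerivedCategory.Q.obj C ≅ M := asIso (DerivedCategory.Q.map ((flatResolutionAug X).app K)) ≪≫ a
  have hac : C.Acyclic := fun i => by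
    rw [exactAt_iff_isZero_homology]
    exact ((DerivedCategory.homologyFunctor X.Modules i).map_isZero (hM.of_iso b)).of_iso
      ((DerivedCategory.homologyFunctorFactors X.Modules i).app _).symm
  have hac' : ((tmCx G).obj C).Acyclic := KFlat.acyclic_tmCx G C hC hac
  have hz : IsZero (DerivedCategory.Q.obj ((tmCx G).obj C)) := by
    haveI : QuasiIso (0 : (tmCx G).obj C ⟶ 0) := ⟨fun i => by
      rw [quasiIsoAt_iff_exactAt' _ _ (ShortComplex.exact_of_isZero_X₂ _ ((HomologicalComplex.eval X.Modules up i).map_isZero (isZero_zero _)))]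
      exact hac' i⟩
    haveI : IsIso (DerivedCategory.Q.map (0 : (tmCx G).obj C ⟶ 0)) := inferInstance
    exact (DerivedCategory.Q.map_isZero (isZero_zero _)).of_iso
      (asIso (DerivedCategory.Q.map (0 : (tmCx G).obj C ⟶ 0)))
  exact isPerfect_of_isZero (PerfPush.isZero_Rpush f
    (hz.of_iso ((DCoh.LTensorMod G).mapIso b.symm ≪≫ ltmQIso G C hC)))

theorem test_shift_one_iff (M : DCoh.D X) : Test f G (M⟦(1 : ℤ)⟧) ↔ Test f G M := by
  obtain ⟨T', hT', ⟨e₁⟩, ⟨e₂⟩, ⟨e₃⟩⟩ := exists_test_triangle f G _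
    (rot_of_distTriang _ (contractible_distinguished M))
  have h2 : DCoh.IsPerfect T'.obj₂ := isPerfect_of_iso e₂.symm (test_zero f G (isZero_zero _))
  exact ⟨fun h => isPerfect_of_iso e₁ (isPerfect_obj₁ T' hT' h2 (isPerfect_of_iso e₃.symm h)),
    fun h => isPerfect_of_iso e₃ (isPerfect_obj₃ T' hT' (isPerfect_of_iso e₁.symm h) h2)⟩

theorem test_shift {M : DCoh.D X} (hM : Test f G M) (n : ℤ) : Test f G (M⟦n⟧) := by
  induction n with
  | zero => exact (Test f G).prop_of_iso ((shiftFunctorZero (DCoh.D X) ℤ).app M).symm hM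
  | succ n ih =>
    exact (Test f G).prop_of_iso ((shiftFunctorAdd' (DCoh.D X) (n : ℤ) 1 _ rfl).app M).symm
      ((test_shift_one_iff f G _).2 ih)
  | pred n ih =>
    exact (test_shift_one_iff f G _).1 ((Test f G).prop_of_iso
      ((shiftFunctorAdd' (DCoh.D X) (-(n : ℤ) - 1) 1 _ (by omega)).app M) ih)

instance : (Test f G).IsStableUnderRetracts := ⟨fun r h => test_retract f G r h⟩

instance : (Test f G).IsTriangulated where
  exists_zero := ⟨0, isZero_zero _, test_zero f G (isZero_zero _)⟩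
  isStableUnderShiftBy n := ⟨fun M hM => test_shift f G hM n⟩
  ext₂' T₀ hT h₁ h₃ := ObjectProperty.le_isoClosure _ _ (by
    obtain ⟨T', hT', ⟨e₁⟩, ⟨e₂⟩, ⟨e₃⟩⟩ := exists_test_triangle f G T₀ hT
    exact isPerfect_of_iso e₂ (isPerfect_obj₂ T' hT' (isPerfect_of_iso e₁.symm h₁) (isPerfect_of_iso e₃.symm h₃)))

end Groth.DerivedCoh.PerfFP
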