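import Groth.Agent.DerivedCoh.PerfFP.Model
import Groth.Agent.DerivedCoh.PerfFP.Thick
import Groth.Agent.DerivedCoh.PerfFP.Envelope
import Groth.Agent.Misc4.PerfectGenerator
import Groth.Agent.DerivedCoh.BaseChange.RelGlobal
import Groth.Agent.DerivedCoh.PerfPush.Reduce
import Groth.Agent.DerivedCoh.PCoh.Pullback
import Groth.Agent.DerivedCoh.PushPull.Adjunction
import Groth.Agent.DerivedCoh.TriBasic
import Groth.Agent.Misc4.RpushAffineReflect
import Groth.Agent.Misc4.RFUpstairs
import Groth.Agent.Misc4.QCohRpushD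
import Groth.Agent.DerivedCoh.Duality.Braid
import Groth.Agent.Ega43FP2.SkScheme
import Groth.Agent.FBaseGeom.AssTensor

/-!
`Rf_*(E ⊗^L G)` is perfect for `f` of finite presentation, `E` perfect and `G` flat over the base with proper support.
-/

universe u

open CategoryTheory CategoryTheory.Limits CategoryTheory.Pretriangulated AlgebraicGeometry HomologicalComplex
open scoped ZeroObject

namespace Groth.DerivedCoh.PerfFP

open Groth.DerivedCoh.KFlat (T IsKFlat tmCx ltmQIso flatResolution flatResolutionAug)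
open Groth.KTheory.Perf

attribute [local instance] HasDerivedCategory.standard
set_option linter.style.haveILetI false

local notation "up" => ComplexShape.up ℤ

/-- derived inverse images along affine morphisms preserve generators -/
theorem generator_Lpull {X X₀ : Scheme.{u}} (g : X ⟶ X₀) [IsAffineHom g] [DCoh.HasLpull g] {P : DCoh.D X₀}
    (hgen : ∀ K : DCoh.D X₀, DCoh.IsQCohD K → (∀ (n : ℤ) (φ : P⟦n⟧ ⟶ K), φ = 0) → IsZero K)
    (K : DCoh.D X) (hK : DCoh.IsQCohD K) (h : ∀ (n : ℤ) (φ : ((DCoh.Lpull g).obj P)⟦n⟧ ⟶ K), φ = 0) :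
    IsZero K := by
  haveI : DCoh.HasRpush g := Groth.Misc4.PushRestrict.hasRightDerived _
  let adj := PushPull.lpullRpushAdj g
  haveI : PreservesLimitsOfSize.{0, 0} (DCoh.Rpush g) := adj.rightAdjoint_preservesLimits
  haveI : (DCoh.Rpush g).Additive := Functor.additive_of_preserves_binary_products _
  have hz : IsZero ((DCoh.Rpush g).obj K) := by
    refine hgen _ (Groth.Misc4.QCohRpushD.isQCohD g K hK) fun n => ?_
    refine shift_hom_eq_zero fun v => ?_
    obtain ⟨e⟩ := Groth.Misc4.RFUpstairs.nonempty_shift_iso (Scheme.Modules.pushforward g) (DCoh.Rpush g)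
      ((DCoh.pushKh g).totalRightDerivedUnit DerivedCategory.Qh (HomotopyCategory.quasiIso X.Modules up)) K (-n)
    suffices H : ∀ w : P ⟶ (DCoh.Rpush g).obj (K⟦-n⟧), w = 0 by
      rw [← cancel_mono e.hom, zero_comp]
      exact H _
    intro w
    obtain ⟨u, rfl⟩ := (adj.homEquiv P _).surjective w
    have hu : u = 0 := by
      obtain ⟨v', rfl⟩ := (shiftTranspose n ((DCoh.Lpull g).obj P) K).surjective u
      rw [h n v']
      exact (congrArg _ (shiftTranspose_symm_zero n _ K).symm).trans (Equiv.apply_symm_apply _ _)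
    rw [hu, Adjunction.homEquiv_unit, Functor.map_zero, comp_zero]
  haveI := Groth.Misc4.RpushAffineReflect.isIso_of_isIso_map g hK
    (fun i => Groth.Misc4.QCohDPerf.isQCoh_isZero ((DerivedCategory.homologyFunctor X.Modules i).map_isZero (isZero_zero _)))
    (0 : K ⟶ 0) (by
      exact ⟨0, hz.eq_of_src _ _, ((DCoh.Rpush g).map_isZero (isZero_zero _)).eq_of_src _ _⟩)
  exact (isZero_zero (DCoh.D X)).of_iso (asIso (0 : K ⟶ 0))

/-- an affine base -/
theorem isPerfect_affine {A : CommRingCat.{u}} {X : Scheme.{u}} (f : X ⟶ Spec A)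
    [LocallyOfFinitePresentation f] [QuasiCompact f] [QuasiSeparated f] [DCoh.HasRpush f]
    (E : DCoh.D X) (hE : DCoh.IsPerfect E) (G : X.Modules) (hG : CohB1.IsFP G)
    (hflat : FlatMod.IsFlatOver f G) (hsupp : ClSub.IsProperOver f (CohB1.support G)) [DCoh.HasLTensorMod G] :
    DCoh.IsPerfect ((DCoh.Rpush f).obj ((DCoh.LTensorMod G).obj E)) := by
  obtain ⟨S₀, X₀, f₀, g, g', G₀, hS₀, hS₀a, hft, hqc, hqs, hga, hga', sq, hG₀, hflat₀, hsupp₀, ⟨eG⟩⟩ :=
    exists_model f G hG hflat hsupp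
  haveI : CompactSpace X := QuasiCompact.compactSpace_of_compactSpace f
  haveI : QuasiSeparatedSpace X := quasiSeparatedSpace_of_quasiSeparated f
  haveI : CompactSpace X₀ := QuasiCompact.compactSpace_of_compactSpace f₀
  haveI : QuasiSeparatedSpace X₀ := quasiSeparatedSpace_of_quasiSeparated f₀
  obtain ⟨P₀, hP₀, -, hgen⟩ := Groth.Misc4.PerfectGenerator.gen X₀ Set.univ isClosed_univ
    (fun _ _ _ => by simp)
  haveI : DCoh.HasLpull g' := KFlat.hasLpull g'
  haveI : DCoh.HasLpull g := KFlat.hasLpull g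
  haveI : DCoh.HasRpush f₀ := Groth.Misc4.PushRestrict.hasRightDerived _
  haveI := KFlat.hasLTensorMod G₀
  haveI := KFlat.hasLTensorMod ((Scheme.Modules.pullback g').obj G₀)
  let P := (DCoh.Lpull g').obj P₀
  have hP : DCoh.IsPerfect P := PCoh.isPerfect_Lpull g' hP₀
  have hPt : Test f G P := by
    obtain ⟨e⟩ := BaseChange.nonempty_baseChange_flatOver sq P₀
      (Groth.Misc4.Thomason.isQCohD_of_isPerfect hP₀) G₀ hG₀.1 hflat₀
    obtain ⟨eT⟩ : Nonempty ((DCoh.LTensorMod ((Scheme.Modules.pullback g').obj G₀)).obj P ≅ (DCoh.LTensorMod G).obj P) := by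
      obtain ⟨C₀, ⟨a⟩⟩ := exists_rep P
      let C := (flatResolution X).obj C₀
      haveI := KFlat.flatResolution_quasiIso C₀
      let b : DCoh.toD X C ≅ P := asIso (DerivedCategory.Q.map ((flatResolutionAug X).app C₀)) ≪≫ a
      have hC : IsKFlat (T X) C := KFlat.flatResolution_isKFlat C₀
      exact ⟨(DCoh.LTensorMod _).mapIso b.symm ≪≫ ltmQIso _ C hC ≪≫
        DerivedCategory.Q.mapIso ((NatIso.mapHomologicalComplex ((T X).flip.mapIso eG) up).app C) ≪≫
        (ltmQIso G C hC).symm ≪≫ (DCoh.LTensorMod G).mapIso b⟩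
    exact isPerfect_of_iso (e ≪≫ (DCoh.Rpush f).mapIso eT)
      (PCoh.isPerfect_Lpull g (PerfPush.isPerfect_Rpush_ltm' f₀ P₀ hP₀ G₀ hG₀ hflat₀ hsupp₀))
  have hle : (ObjectProperty.singleton P).triangEnvelope ≤ Test f G :=
    (ObjectProperty.triangEnvelope_le_iff _).2 (by rw [ObjectProperty.singleton_le_iff]; exact hPt)
  exact hle _ (triangEnvelope_of_isPerfect hP
    (generator_Lpull g' fun K hK h => hgen K hK (fun i => Set.subset_univ _) h) hE)

/-- restriction to an open subscheme is inverse image -/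
theorem nonempty_rd_iso_Lpull {U X : Scheme.{u}} (j : U ⟶ X) [IsOpenImmersion j] [DCoh.HasLpull j] (K : DCoh.D X) :
    Nonempty ((Rd j).obj K ≅ (DCoh.Lpull j).obj K) := by
  obtain ⟨F, ⟨e⟩⟩ := exists_rep K
  haveI := KFlat.flatResolution_quasiIso F
  let P := (flatResolution X).obj F
  have hP : IsKFlat (T X) P := KFlat.flatResolution_isKFlat F
  let eP : DCoh.toD X P ≅ K := asIso (DerivedCategory.Q.map ((flatResolutionAug X).app F)) ≪≫ e
  exact ⟨(Rd j).mapIso eP.symm ≪≫ rdQIso j P ≪≫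
    DerivedCategory.Q.mapIso ((NatIso.mapHomologicalComplex (Scheme.Modules.restrictFunctorIsoPullback j) up).app P) ≪≫
    (KFlat.lpullQIso j P hP).symm ≪≫ (DCoh.Lpull j).mapIso eP⟩

theorem isPerfect_Rpush_ltm_fp {X S : Scheme.{u}} (f : X ⟶ S) [LocallyOfFinitePresentation f] [QuasiCompact f]
    [QuasiSeparated f] [DCoh.HasRpush f] (E : DCoh.D X) (hE : DCoh.IsPerfect E) (G : X.Modules)
    (hG : CohB1.IsFP G) (hflat : FlatMod.IsFlatOver f G)
    (hsupp : ClSub.IsProperOver f (CohB1.support G)) [DCoh.HasLTensorMod G] :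
    DCoh.IsPerfect ((DCoh.Rpush f).obj ((DCoh.LTensorMod G).obj E)) := by
  haveI : G.IsQuasicoherent := by
    have := hG
    infer_instance
  rw [isPerfect_iff]
  intro s
  obtain ⟨V, hV, hs, -⟩ := exists_isAffineOpen_mem_and_subset (x := s) (U := (⊤ : S.Opens)) trivial
  let A : CommRingCat.{u} := Γ(S, V)
  let j : Spec A ⟶ S := hV.fromSpec
  let j' := pullback.fst f j
  let f' := pullback.snd f j
  have sq : IsPullback j' f' f j := IsPullback.of_hasPullback f j
  haveI : LocallyOfFinitePresentation f' := MorphismProperty.of_isPullback sq inferInstance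
  haveI : DCoh.HasLpull j := KFlat.hasLpull j
  haveI : DCoh.HasLpull j' := KFlat.hasLpull j'
  haveI : DCoh.HasRpush f' := Groth.Misc4.PushRestrict.hasRightDerived _
  let G' := (Scheme.Modules.pullback j').obj G
  haveI := KFlat.hasLTensorMod G'
  obtain ⟨e⟩ := BaseChange.nonempty_baseChange_flatOver sq E
    (Groth.Misc4.Thomason.isQCohD_of_isPerfect hE) G ‹G.IsQuasicoherent› hflat
  have hsupp' : ClSub.IsProperOver f' (CohB1.support G') := by
    rw [Groth.QCohMod.support_pullback j' G (Groth.PropsBasic.LocFree.isFT_of_isFP G hG)]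
    exact Groth.EtaleShriek.ProperOver.preimage f sq hsupp
  have h := isPerfect_of_iso e.symm (isPerfect_affine f' _ (PCoh.isPerfect_Lpull j' hE) G'
    (Groth.QCohMod.isFP_pullback _ G hG) (Groth.FlatMorOne.isFlatOver_baseChange sq G hflat) hsupp')
  obtain ⟨c⟩ := nonempty_rd_iso_Lpull j ((DCoh.Rpush f).obj ((DCoh.LTensorMod G).obj E))
  obtain ⟨y, hy⟩ : s ∈ Set.range j := by
    rw [show Set.range j = (V : Set S) from hV.range_fromSpec]
    exact hs
  obtain ⟨W, hW, hp⟩ := Groth.Misc4.ApproxGlue.exists_perfOn_of_rd j (isPerfect_of_iso c.symm h) y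
  exact ⟨W, hy ▸ hW, hp⟩

/-- `M ⊗ O ≅ M` -/
noncomputable def rUnit {X : Scheme.{u}} : (T X).flip.obj (Coh.structureModule X) ≅ 𝟭 X.Modules :=
  NatIso.ofComponents (fun M => Duality.braid M (Coh.structureModule X) ≪≫ Groth.CohTwo.LocFreeDual.lUnit.app M)
    fun {M M'} φ => by
      dsimp
      rw [Category.assoc]
      have h : ((T X).obj (Coh.structureModule X)).map φ ≫ Groth.CohTwo.LocFreeDual.lUnit.hom.app M' =
          Groth.CohTwo.LocFreeDual.lUnit.hom.app M ≫ φ := Groth.CohTwo.LocFreeDual.lUnit.hom.naturality φ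
      exact (reassoc_of% (Duality.braid_natural₁ φ (Coh.structureModule X))) _ |>.trans (congrArg (_ ≫ ·) h)

theorem isPerfect_Rpush_of_proper_flat {X S : Scheme.{u}} (f : X ⟶ S) [IsProper f] [Flat f]
    [LocallyOfFinitePresentation f] [DCoh.HasRpush f] (E : DCoh.D X) (hE : DCoh.IsPerfect E) :
    DCoh.IsPerfect ((DCoh.Rpush f).obj E) := by
  haveI := KFlat.hasLTensorMod (Coh.structureModule X)
  obtain ⟨F, ⟨e⟩⟩ := exists_rep E
  haveI := KFlat.flatResolution_quasiIso F
  let P := (flatResolution X).obj F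
  have hP : IsKFlat (T X) P := KFlat.flatResolution_isKFlat F
  let eP : DCoh.toD X P ≅ E := asIso (DerivedCategory.Q.map ((flatResolutionAug X).app F)) ≪≫ e
  have hFP : CohB1.IsFP (Coh.structureModule X) := Groth.Ega43FP2.isFP_structureModule
  have h := isPerfect_Rpush_ltm_fp f E hE (Coh.structureModule X) hFP
    (Groth.FBaseGeom.isFlatOver_structureModule f)
    (Groth.EtaleShriek.ProperOver.of_isProper f
      (Groth.Ega43FP2.isClosed_support _ (Groth.PropsBasic.LocFree.isFT_of_isFP _ hFP)))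
  exact isPerfect_of_iso ((DCoh.Rpush f).mapIso ((DCoh.LTensorMod _).mapIso eP.symm ≪≫ ltmQIso _ P hP ≪≫
    DerivedCategory.Q.mapIso ((NatIso.mapHomologicalComplex rUnit up).app P ≪≫
      (Functor.mapHomologicalComplexIdIso X.Modules up).app P) ≪≫ eP)) h

end Groth.DerivedCoh.PerfFP
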