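import Groth.Agent.LimitMod.FlatModel
import Groth.Agent.Limits.ProperDescent
import Groth.Agent.EtaleShriek.ProperOver
import Groth.Agent.QCohMod.SupportPullback
import Groth.Agent.CohTwo.SupportLocal
import Groth.Agent.FlatMorOne.FlatBaseChangeScheme

/-!
Noetherian models of flat modules of finite presentation with proper support.
-/

universe u

open CategoryTheory Limits AlgebraicGeometry Opposite TopologicalSpace

set_option backward.isDefEq.respectTransparency.types false

namespace Groth.DerivedCoh.PerfFP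

open Groth.SpectralTopology Groth.LimitMod

lemma support_of_iso {X : Scheme.{u}} {M N : X.Modules} (e : M ≅ N) : CohB1.support M = CohB1.support N := by
  ext x
  exact not_congr (((Groth.QCohMod.stalk x).mapIso e).addCommGroupIsoToAddEquiv.toEquiv.subsingleton_congr)

theorem exists_model {A : CommRingCat.{u}} {X : Scheme.{u}} (f : X ⟶ Spec A)
    [LocallyOfFinitePresentation f] [QuasiCompact f] [QuasiSeparated f] (G : X.Modules)
    (hG : CohB1.IsFP G) (hflat : FlatMod.IsFlatOver f G)
    (hsupp : ClSub.IsProperOver f (CohB1.support G)) :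
    ∃ (S₀ X₀ : Scheme.{u}) (f₀ : X₀ ⟶ S₀) (g : Spec A ⟶ S₀) (g' : X ⟶ X₀) (G₀ : X₀.Modules),
      IsNoetherian S₀ ∧ IsAffine S₀ ∧ LocallyOfFiniteType f₀ ∧ QuasiCompact f₀ ∧ QuasiSeparated f₀ ∧
        IsAffineHom g ∧ IsAffineHom g' ∧ IsPullback g' f f₀ g ∧ Coh.IsCoh G₀ ∧
        FlatMod.IsFlatOver f₀ G₀ ∧ ClSub.IsProperOver f₀ (CohB1.support G₀) ∧
        Nonempty ((Scheme.Modules.pullback g').obj G₀ ≅ G) := by
  have : G.IsQuasicoherent := by
    have := hG
    infer_instance
  have : ∀ i, IsAffine ((fgSchemes A).obj i) := fun i => inferInstanceAs (IsAffine (Spec _))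
  have := isCofiltered_fgSub A
  let c := fgCone A
  let D := fgSchemes A
  let f' : X ⟶ c.pt := f
  have : LocallyOfFinitePresentation f' := inferInstanceAs (LocallyOfFinitePresentation f)
  have : QuasiCompact f' := inferInstanceAs (QuasiCompact f)
  have : QuasiSeparated f' := inferInstanceAs (QuasiSeparated f)
  obtain ⟨i, M, G₀, hq, hfp, ⟨a⟩, hfl⟩ :=
    exists_flat_model (isLimitFgCone A) (f := f') G hG hflat
  have : IsNoetherian (D.obj i) := inferInstance
  have : IsLocallyNoetherian M.obj := LocallyOfFiniteType.isLocallyNoetherian M.hom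
  have hcoh : Coh.IsCoh G₀ := ⟨hq, Groth.PropsBasic.LocFree.isFT_of_isFP G₀ hfp⟩
  have hZ : IsClosed (CohB1.support G₀) := Groth.CohTwo.isClosed_support G₀ hcoh
  let I := Scheme.IdealSheafData.vanishingIdeal (⟨_, hZ⟩ : TopologicalSpace.Closeds M.obj)
  let ι := I.subschemeι
  have hι : Set.range ι = CohB1.support G₀ := by
    rw [Scheme.IdealSheafData.range_subschemeι, Scheme.IdealSheafData.coe_support_vanishingIdeal]
    rfl
  -- the limit is proper
  have hsG : CohB1.support G = M.map ⁻¹' CohB1.support G₀ := by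
    rw [← Groth.QCohMod.support_pullback M.map G₀ hcoh.2]
    exact support_of_iso a.symm
  have h1 : IsProper (pullback.snd ι M.map ≫ f') := by
    refine (Groth.EtaleShriek.ProperOver.iff_isProper f (hZ.preimage M.map.continuous) (pullback.snd ι M.map)
      ?_).1 (hsG ▸ hsupp)
    rw [Scheme.Pullback.range_snd, hι]
  have : IsProper (pullback.snd (ι ≫ M.hom) (c.π.app i)) := by
    have sq := (IsPullback.of_hasPullback ι M.map).paste_vert M.sq.flip.flip
    rw [← sq.isoPullback_inv_snd]
    infer_instance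
  have : ∀ (a b : Over i) (m : a ⟶ b), IsAffineHom ((Over.forget i ⋙ D).map m) := fun _ _ m =>
    inferInstanceAs (IsAffineHom (D.map m.left))
  have : ∀ a : Over i, CompactSpace ↥((Over.forget i ⋙ D).obj a) := fun a =>
    inferInstanceAs (CompactSpace ↥(D.obj a.left))
  have : ∀ a : Over i, QuasiSeparatedSpace ↥((Over.forget i ⋙ D).obj a) := fun a =>
    inferInstanceAs (QuasiSeparatedSpace ↥(D.obj a.left))
  obtain ⟨j, hj⟩ := Groth.Limits.exists_isProper_bcTrans
    ((Functor.Initial.isLimitWhiskerEquiv (Over.forget i) c).symm (isLimitFgCone A)) (Groth.Limits.overTrans D i)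
    (c.π.app i) (fun j => c.w j.hom) (ι ≫ M.hom)
  have hjp : IsProper (pullback.snd (ι ≫ M.hom) (D.map j.hom)) := hj
  let N := M.pull j.hom
  let G₁ : N.obj.Modules := (Scheme.Modules.pullback (M.proj j.hom)).obj G₀
  have : IsNoetherian (D.obj j.left) := inferInstance
  have : IsLocallyNoetherian N.obj := LocallyOfFiniteType.isLocallyNoetherian N.hom
  have hcoh₁ : Coh.IsCoh G₁ := ⟨inferInstanceAs ((Scheme.Modules.pullback (M.proj j.hom)).obj G₀).IsQuasicoherent,
    Groth.PropsBasic.LocFree.isFT_of_isFP G₁ (Groth.QCohMod.isFP_pullback _ G₀ hfp)⟩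
  have hp₁ : ClSub.IsProperOver N.hom (CohB1.support G₁) := by
    rw [Groth.QCohMod.support_pullback (M.proj j.hom) G₀ hcoh.2]
    refine (Groth.EtaleShriek.ProperOver.iff_isProper N.hom (hZ.preimage (M.proj j.hom).continuous)
      (pullback.snd ι (M.proj j.hom)) ?_).2 ?_
    · rw [Scheme.Pullback.range_snd, hι]
    · have sq := (IsPullback.of_hasPullback ι (M.proj j.hom)).paste_vert
        (IsPullback.of_hasPullback (D.map j.hom) M.hom).flip
      rw [← sq.isoPullback_hom_snd]
      infer_instance
  have : IsAffine (D.obj j.left) := inferInstance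
  refine ⟨D.obj j.left, N.obj, N.hom, c.π.app j.left, N.map, G₁, inferInstance, inferInstance, inferInstance,
    inferInstance, inferInstance, ?_, ?_, N.sq, hcoh₁,
    Groth.FlatMorOne.isFlatOver_baseChange (IsPullback.of_hasPullback (D.map j.hom) M.hom).flip G₀ hfl, hp₁, ⟨?_⟩⟩
  · exact inferInstanceAs (IsAffineHom (X := Spec A) (c.π.app j.left))
  · exact MorphismProperty.of_isPullback N.sq.flip (inferInstanceAs (IsAffineHom (X := Spec A) (c.π.app j.left)))
  · exact (Scheme.Modules.pullbackComp (M.pull j.hom).map (M.proj j.hom) ≪≫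
      Scheme.Modules.pullbackCongr (M.map_proj j.hom)).app G₀ ≪≫ a

end Groth.DerivedCoh.PerfFP
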