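import Groth.Agent.DerivedCoh.PerfFP.Main
import Groth.Agent.DerivedCoh.RelAmp.PushAmp
import Groth.Agent.DerivedCoh.PCohDescent.Main
import Groth.Agent.DerivedCoh.RelPerfectBC
import Groth.Agent.Misc4.ApproxQcqs

/-!
Direct images of relatively perfect objects along proper flat morphisms are perfect.
-/

universe u

open CategoryTheory CategoryTheory.Limits CategoryTheory.Pretriangulated AlgebraicGeometry HomologicalComplex
open scoped ZeroObject

namespace Groth.DerivedCoh.PerfFP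

open Groth.KTheory.Perf
open Groth.DerivedCoh.PCoh

attribute [local instance] HasDerivedCategory.standard
set_option linter.style.haveILetI false

local notation "up" => ComplexShape.up ℤ

variable {X S : Scheme.{u}}

/-- an object without cohomology in degrees `≥ m` is `m`-pseudo-coherent -/
theorem isPseudoCoherentD_of_below {m : ℤ} {C : DCoh.D X} (h : Below m C) : DCoh.IsPseudoCoherentD m C := by
  rw [isPseudoCoherentD_iff]
  refine fun x => ⟨⊤, trivial, 0, 0, ⟨⟨0, 0, fun i _ => Functor.map_isZero (eval _ up i) (isZero_zero _)⟩,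
    fun i => Groth.KTheory.LocFree.isFinLocFree_zero ((eval _ up i).map_isZero (isZero_zero _))⟩, ?_, ?_⟩
  · intro i hi
    exact ⟨0, ((DerivedCategory.homologyFunctor _ i).map_isZero
      (DerivedCategory.Q.map_isZero (isZero_zero _))).eq_of_src _ _, (below_rd _ h i hi.le).eq_of_src _ _⟩
  · exact ⟨fun _ _ _ => (below_rd _ h m le_rfl).eq_of_src _ _⟩

theorem isPseudoCoherentD_Rpush_of_qcqs [CompactSpace S] [QuasiSeparatedSpace S] (f : X ⟶ S) [IsProper f] [Flat f]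
    [LocallyOfFinitePresentation f] [DCoh.HasRpush f] (E : DCoh.D X) (hpc : ∀ m : ℤ, DCoh.IsPseudoCoherentD m E)
    (m : ℤ) : DCoh.IsPseudoCoherentD m ((DCoh.Rpush f).obj E) := by
  haveI : CompactSpace X := QuasiCompact.compactSpace_of_compactSpace f
  haveI : QuasiSeparatedSpace X := quasiSeparatedSpace_of_quasiSeparated f
  have hqc : DCoh.IsQCohD E := RelPerfectBC.isQCohD_of_pc hpc
  obtain ⟨N, hN0, hN⟩ := Groth.Misc4.QCohCd.exists_isZero_HD f
  obtain ⟨r, hr⟩ := Groth.Misc4.ApproxQcqs.holds X Set.univ isClosed_univ (fun _ _ _ => by simp)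
  let m' := m - N - 1
  obtain ⟨P, α, hP, -, h1, h2⟩ := hr m' E hqc (hpc _) fun i _ => Set.subset_univ _
  obtain ⟨C, g, δ, hT⟩ := distinguished_cocone_triangle α
  have hC : Below m' C := below_of_near _ hT ⟨h1, h2⟩
  have hCq : DCoh.IsQCohD C := Groth.Misc4.QCohDPerf.isQCohD_obj₂ (Triangle.mk α g δ).rotate (rot_of_distTriang _ hT)
    hqc (Groth.Misc4.QCohDPerf.isQCohD_shift (Groth.Misc4.Thomason.isQCohD_of_isPerfect hP) 1)
  haveI : C.IsLE m' := (DerivedCategory.isLE_iff _ _).2 fun i hi => hC i hi.le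
  have hC' : Below m ((DCoh.Rpush f).obj C) := fun i hi => hN C hCq m' inferInstance i (by omega)
  obtain ⟨c, hc⟩ := Groth.DAlg.RFTriangle.exists_distinguished (Scheme.Modules.pushforward f) (DCoh.Rpush f)
    ((DCoh.pushKh f).totalRightDerivedUnit DerivedCategory.Qh (HomotopyCategory.quasiIso X.Modules up))
    (Triangle.mk α g δ) hT
  exact isPseudoCoherentD_obj₂ _ hc
    (isPseudoCoherentD_of_isPerfect (isPerfect_Rpush_of_proper_flat f P hP) m) (isPseudoCoherentD_of_below hC')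

theorem isPseudoCoherentD_Rpush (f : X ⟶ S) [IsProper f] [Flat f]
    [LocallyOfFinitePresentation f] [DCoh.HasRpush f] (E : DCoh.D X) (hpc : ∀ m : ℤ, DCoh.IsPseudoCoherentD m E)
    (m : ℤ) : DCoh.IsPseudoCoherentD m ((DCoh.Rpush f).obj E) := by
  rw [isPseudoCoherentD_iff]
  intro s
  obtain ⟨V, hV, hs, -⟩ := exists_isAffineOpen_mem_and_subset (x := s) (U := (⊤ : S.Opens)) trivial
  haveI : IsAffine (V : Scheme.{u}) := hV
  haveI : IsProper (f ∣_ V) := MorphismProperty.of_isPullback (isPullback_morphismRestrict f V).flip ‹IsProper f›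
  haveI : Flat (f ∣_ V) := MorphismProperty.of_isPullback (isPullback_morphismRestrict f V).flip ‹Flat f›
  haveI : LocallyOfFinitePresentation (f ∣_ V) :=
    MorphismProperty.of_isPullback (isPullback_morphismRestrict f V).flip ‹LocallyOfFinitePresentation f›
  haveI : DCoh.HasRpush (f ∣_ V) := Groth.Misc4.PushRestrict.hasRightDerived _
  haveI := Groth.Misc4.ApproxExtend.preservesFiniteLimits_restrictFunctor V.ι
  haveI := Groth.Misc4.ApproxExtend.preservesFiniteLimits_restrictFunctor (f ⁻¹ᵁ V).ι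
  obtain ⟨e⟩ := Groth.Misc4.PushRestrict.restrictD_Rpush_iso f V
  have h := isPseudoCoherentD_of_iso (e.app E).symm
    (isPseudoCoherentD_Rpush_of_qcqs (f ∣_ V) _ (fun k => PCohDescent.pcoh_rd (f ⁻¹ᵁ V).ι (hpc k)) m)
  obtain ⟨W, hW, F, β, hF, hβ⟩ := (isPseudoCoherentD_iff m _).1 h ⟨s, hs⟩
  obtain ⟨c⟩ := nonempty_rdComp (k := W.ι) (j := V.ι) (l := W.ι ≫ V.ι) rfl ((DCoh.Rpush f).obj E)
  exact ⟨(W.ι ≫ V.ι).opensRange, ⟨⟨⟨s, hs⟩, hW⟩, rfl⟩,
    pcohOn_of_range _ hF (β ≫ c.inv) (hβ.comp (near_of_isIso _))⟩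

open Groth.DerivedCoh.RelAmp in
/-- relative tor amplitude is locally finite for derived direct images, without a global upper bound -/
theorem locAmp_Rpush_free {Y : Scheme.{u}} (p : X ⟶ S) (q : Y ⟶ S) (f : X ⟶ Y) (w : f ≫ q = p) [QuasiCompact f]
    [QuasiSeparated f] [DCoh.HasRpush f] (E : DCoh.D X) (hqc : DCoh.IsQCohD E)
    (hE : LocAmp p E) : LocAmp q ((DCoh.Rpush f).obj E) := fun y => by
  obtain ⟨W, hW, hyW, -⟩ := exists_isAffineOpen_mem_and_subset (show q y ∈ (⊤ : S.Opens) from trivial)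
  obtain ⟨Y', hY, hyY, hYW⟩ := exists_isAffineOpen_mem_and_subset (show y ∈ q ⁻¹ᵁ W from hyW)
  haveI : IsAffine (Y' : Scheme.{u}) := hY
  haveI : DCoh.HasRpush (f ∣_ Y') := Groth.Misc4.PushRestrict.hasRightDerived _
  choose V a b hV hVx using hE
  obtain ⟨t, ht⟩ := (f.isCompact_preimage hY.isCompact).elim_finite_subcover
    (fun x => (V x : Set X)) (fun x => (V x).2) fun x _ => Set.mem_iUnion.2 ⟨x, hV x⟩
  obtain ⟨A, hA⟩ : ∃ A : ℤ, ∀ x ∈ t, A ≤ a x := ⟨-((t.sup fun x => (-a x).toNat : ℕ) : ℤ), fun x hx => by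
    have := Finset.le_sup (f := fun x => (-a x).toNat) hx
    omega⟩
  obtain ⟨B, hB⟩ : ∃ B : ℤ, ∀ x ∈ t, b x ≤ B := ⟨(t.sup fun x => (b x).toNat : ℕ), fun x hx => by
    have := Finset.le_sup (f := fun x => (b x).toNat) hx
    omega⟩
  obtain ⟨N, -, hN⟩ := Groth.Misc4.QCohCd.exists_isZero_HD (f ∣_ Y')
  let E' := (Rd (f ⁻¹ᵁ Y').ι).obj E
  have hxA : ∀ x ∈ f ⁻¹ᵁ Y', AmpAt p A B E x := fun x hx => by
    obtain ⟨i, hi, hxi⟩ : ∃ i ∈ t, x ∈ V i := by simpa using ht hx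
    exact (hVx i x hxi).mono (hA i hi) (hB i hi)
  haveI : E'.IsLE B := (DerivedCategory.isLE_iff _ _).2 fun i hi => by
    obtain ⟨F, ⟨eF⟩⟩ := Groth.KTheory.Perf.exists_rep E'
    exact KFlat.isZero_hd_of_iso eF.symm ((KFlat.isZero_hd_toD_iff F i).2
      (exactAt_of_ampAt F (f := (f ⁻¹ᵁ Y').ι ≫ p) (a := A) (.inr hi) fun x =>
        ((ampAt_rd_iff (f ⁻¹ᵁ Y').ι x p E A B).2 (hxA x.1 x.2)).of_iso eF.symm))
  haveI : ((DCoh.Rpush (f ∣_ Y')).obj E').IsLE (B + N) := (DerivedCategory.isLE_iff _ _).2 fun i hi =>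
    hN E' (Groth.Misc4.QCohDPerf.isQCohD_restrict _ hqc) B inferInstance i hi
  exact ⟨Y', A, B + N, hyY, fun z hz => ampAt_Rpush_local p q f w E hqc hW Y' hYW
    (b := B) hxA (B + N) hz⟩

theorem isPerfect_Rpush_of_relPerfect (f : X ⟶ S) [IsProper f] [Flat f]
    [LocallyOfFinitePresentation f] [DCoh.HasRpush f] (E : DCoh.D X) (hpc : ∀ m : ℤ, DCoh.IsPseudoCoherentD m E)
    (htor : DCoh.LocHasFiniteRelTorDim f E) : DCoh.IsPerfect ((DCoh.Rpush f).obj E) :=
  (isPerfect_iff_pseudoCoherent _).2 ⟨isPseudoCoherentD_Rpush f E hpc,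
    (RelAmp.locHasFiniteTorDim_iff_locAmp _).2 (locAmp_Rpush_free f (𝟙 S) f (Category.comp_id f) E
      (RelPerfectBC.isQCohD_of_pc hpc) ((RelAmp.locHasFiniteRelTorDim_iff E).1 htor))⟩

end Groth.DerivedCoh.PerfFP
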