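import Groth.Agent.DerivedCoh.PerfFP.Kernel
import Groth.Agent.DerivedCoh.PerfFP.RelPerfect
import Groth.Agent.DerivedCoh.RelPerfectBC
import Groth.Agent.DerivedCoh.ResProp.Local
import Groth.Agent.Misc4.ApproxQcqs
import Groth.Agent.Misc4.QCohDTensor
import Groth.Agent.Misc4.QCohCd
import Groth.Agent.CohDev.ProperOver
import Groth.Agent.Pi1FPDesc.Basic
import Groth.Agent.CohTwo.LocFreeDual

/-!
`Rf_*(E ⊗^L G)` is pseudo-coherent for `E` pseudo-coherent and `G` bounded above, termwise flat and finitely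
presented with proper support, over a quasi-compact base.
-/

universe u

open CategoryTheory CategoryTheory.Limits CategoryTheory.Pretriangulated AlgebraicGeometry HomologicalComplex
open scoped ZeroObject

namespace Groth.DerivedCoh.PerfFP

open Groth.DerivedCoh.KFlat (T IsKFlat tot totL totR flatResolution flatResolutionAug)
open Groth.DerivedCoh.PCoh (Below below_of_near)
open Groth.KTheory.Perf

attribute [local instance] HasDerivedCategory.standard
set_option linter.style.haveILetI false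

local notation "up" => ComplexShape.up ℤ

variable {X S : Scheme.{u}}

theorem isQCohD_toD_qcoh (K : CochainComplex X.Modules ℤ) (h : ∀ i, (K.X i).IsQuasicoherent) :
    DCoh.IsQCohD (DCoh.toD X K) := fun i =>
  (Groth.QCohMod.isQCoh_iff_of_iso ((DerivedCategory.homologyFunctorFactors X.Modules i).app K)).2
    (Groth.DerivedCoh.ResProp.isQCoh_homology (F := K) h i)

theorem isQCohD_third (T₀ : Triangle (DCoh.D X)) (hT : T₀ ∈ distTriang _) (h₁ : DCoh.IsQCohD T₀.obj₁)
    (h₂ : DCoh.IsQCohD T₀.obj₂) : DCoh.IsQCohD T₀.obj₃ :=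
  Groth.Misc4.QCohDPerf.isQCohD_obj₂ T₀.rotate (rot_of_distTriang _ hT) h₂
    (Groth.Misc4.QCohDPerf.isQCohD_shift h₁ 1)

/-- tensoring with an arbitrary complex carries triangles to triangles -/
theorem triTr_ltcx_any (G : CochainComplex X.Modules ℤ) [DCoh.HasLTensorCx G] :
    Groth.Misc4.QCohDLeft.TriTr (DCoh.LTensorCx G) := fun T₀ hT => by
  let G' := (flatResolution X).obj G
  let s : G' ⟶ G := (flatResolutionAug X).app G
  haveI : QuasiIso s := KFlat.flatResolution_quasiIso G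
  have hG' : IsKFlat (T X) G' := KFlat.flatResolution_isKFlat G
  haveI := KFlat.hasLTensorCx_of_isKFlat G' hG'
  have key : ∀ A : DCoh.D X, Nonempty ((DCoh.LTensorCx G').obj A ≅ (DCoh.LTensorCx G).obj A) := fun A => by
    obtain ⟨F, ⟨e⟩⟩ := exists_rep A
    let P := (flatResolution X).obj F
    haveI := KFlat.flatResolution_quasiIso F
    have hP : IsKFlat (T X).flip P := KFlat.flatResolution_isKFlat_flip F
    let eP : DCoh.toD X P ≅ A := asIso (DerivedCategory.Q.map ((flatResolutionAug X).app F)) ≪≫ e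
    haveI := KFlat.isIso_ltcxCounit_app G P hP
    haveI := KFlat.isIso_ltcxCounit_app G' P hP
    haveI : QuasiIso ((totR (T X) P).map s) := KFlat.quasiIso_totR (T X) hP s
    haveI : IsIso (DerivedCategory.Q.map ((totR (T X) P).map s)) := inferInstance
    exact ⟨(DCoh.LTensorCx G').mapIso eP.symm ≪≫ asIso ((KFlat.ltcxCounit G').app P) ≪≫
      asIso (DerivedCategory.Q.map ((totR (T X) P).map s)) ≪≫
      (asIso ((KFlat.ltcxCounit G).app P)).symm ≪≫ (DCoh.LTensorCx G).mapIso eP⟩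
  obtain ⟨T', hT', ⟨a⟩, ⟨b⟩, ⟨c⟩⟩ := Groth.Misc4.QCohDTensor.triTr_ltcx G' hG' T₀ hT
  exact ⟨T', hT', ⟨a ≪≫ (key _).some⟩, ⟨b ≪≫ (key _).some⟩, ⟨c ≪≫ (key _).some⟩⟩

/-- degree bound for total complexes -/
theorem below_tot (A B : CochainComplex X.Modules ℤ) (a b : ℤ) (hA : ∀ i, a ≤ i → IsZero (A.X i))
    (hB : ∀ i, b ≤ i → IsZero (B.X i)) : Below (a + b - 1) (DCoh.toD X (tot (T X) A B)) := by
  intro i hi
  rw [Groth.DerivedCoh.KFlat.isZero_hd_toD_iff]
  refine ExactAt.of_isZero ((IsZero.iff_id_eq_zero _).2 (mapBifunctor.hom_ext fun p q h => ?_))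
  have h' : p + q = i := h
  refine IsZero.eq_of_src ?_ _ _
  by_cases hp : a ≤ p
  · exact Functor.isZero_iff _ |>.1 ((T X).map_isZero (hA p hp)) _
  · exact ((T X).obj (A.X p)).map_isZero (hB q (by omega))

variable (f : X ⟶ S) [LocallyOfFinitePresentation f] [QuasiCompact f] [QuasiSeparated f] [DCoh.HasRpush f]

/-- `Rf_*` of something far below -/
theorem exists_below_Rpush [CompactSpace S] : ∃ N : ℤ, ∀ (m : ℤ) (A : DCoh.D X), DCoh.IsQCohD A →
    Below m A → Below (m + N) ((DCoh.Rpush f).obj A) := by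
  obtain ⟨N, -, hN⟩ := Groth.Misc4.QCohCd.exists_isZero_HD f
  refine ⟨N, fun m A hA h i hi => hN A hA (m - 1) ?_ i (by omega)⟩
  rw [DerivedCategory.isLE_iff]
  exact fun j hj => h j (by omega)

/-- pseudo-coherence of direct images over a quasi-compact base -/
theorem isPseudoCoherentD_Rpush_ltcx [CompactSpace S] [QuasiSeparatedSpace S] (E : DCoh.D X)
    (hE : ∀ m : ℤ, DCoh.IsPseudoCoherentD m E) (G : CochainComplex X.Modules ℤ) (b : ℤ)
    (hGb : ∀ i : ℤ, b < i → IsZero (G.X i)) (hGfp : ∀ i : ℤ, CohB1.IsFP (G.X i))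
    (hGflat : ∀ i : ℤ, FlatMod.IsFlatOver f (G.X i))
    (hGsupp : ∀ i : ℤ, ClSub.IsProperOver f (CohB1.support (G.X i)))
    [DCoh.HasLTensorCx G] (m : ℤ) :
    DCoh.IsPseudoCoherentD m ((DCoh.Rpush f).obj ((DCoh.LTensorCx G).obj E)) := by
  haveI : CompactSpace X := QuasiCompact.compactSpace_of_compactSpace f
  haveI : QuasiSeparatedSpace X := quasiSeparatedSpace_of_quasiSeparated f
  obtain ⟨N, hN⟩ := exists_below_Rpush f
  have hGq : ∀ i, (G.X i).IsQuasicoherent := fun i => by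
    have := hGfp i
    infer_instance
  have hGD := isQCohD_toD_qcoh G hGq
  have hEq : DCoh.IsQCohD E := RelPerfectBC.isQCohD_of_pc hE
  -- a perfect approximation
  obtain ⟨r, hr⟩ := Groth.Misc4.ApproxQcqs.holds X Set.univ isClosed_univ
    (fun _ _ _ => by simp)
  let m' := m - N - b
  obtain ⟨P₀, α, hP₀, -, hα⟩ := hr m' E hEq (hE _) fun _ _ => Set.subset_univ _
  obtain ⟨C, v, w, hT₀⟩ := distinguished_cocone_triangle α
  have hC : Below m' C := below_of_near _ hT₀ hα
  have hP₀q : DCoh.IsQCohD P₀ := Groth.Misc4.Thomason.isQCohD_of_isPerfect hP₀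
  have hCq : DCoh.IsQCohD C := isQCohD_third _ hT₀ hP₀q hEq
  obtain ⟨T', hT', ⟨a₁⟩, ⟨a₂⟩, ⟨a₃⟩⟩ := triTr_ltcx_any G _ hT₀
  -- the error term
  have h₃ : Below m ((DCoh.Rpush f).obj T'.obj₃) := by
    obtain ⟨R, hR, -, hR0, ⟨eR⟩⟩ := PCoh.exists_flat_rep_of_below hC
    haveI := KFlat.isIso_ltcxCounit_app G R (Duality.isKFlat_flip hR)
    have hb1 : Below (m - N) ((DCoh.LTensorCx G).obj C) :=
      ((below_tot R G m' (b + 1) hR0 fun i hi => hGb i (by omega)).of_iso
        ((asIso ((KFlat.ltcxCounit G).app R)).symm ≪≫ (DCoh.LTensorCx G).mapIso eR)).mono (by omega)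
    exact (hN (m - N) _ (Groth.Misc4.QCohDPerf.isQCohD_of_iso a₃.symm
      (Groth.Misc4.QCohDTensor.isQCohD_LTensorCx G hGD hCq)) (hb1.of_iso a₃.symm)).mono (by omega)
  obtain ⟨c, hc⟩ := Groth.DAlg.RFTriangle.exists_distinguished (Scheme.Modules.pushforward f) (DCoh.Rpush f)
    ((DCoh.pushKh f).totalRightDerivedUnit DerivedCategory.Qh (HomotopyCategory.quasiIso X.Modules up)) T' hT'
  refine PCoh.isPseudoCoherentD_of_iso ((DCoh.Rpush f).mapIso a₂)
    (PCoh.isPseudoCoherentD_obj₂ _ hc ?_ (isPseudoCoherentD_of_below h₃))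
  refine PCoh.isPseudoCoherentD_of_iso ((DCoh.Rpush f).mapIso a₁.symm) ?_
  -- the perfect part
  obtain ⟨lo, hi, -, hhi⟩ := Groth.KTheory.Perf.exists_bounds_of_isPerfect hP₀
  obtain ⟨P, hP, -, hP0, ⟨eP⟩⟩ := PCoh.exists_flat_rep_of_below (m := hi + 1) (C := P₀) fun i hi' =>
    (DerivedCategory.isLE_iff _ _).1 hhi i (by omega)
  haveI := KFlat.hasLTensorCx_of_isKFlat P hP
  have hflip := Duality.isKFlat_flip hP
  let L := DCoh.LTensorCx P
  have key : ∀ (H : CochainComplex X.Modules ℤ) [DCoh.HasLTensorCx H],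
      Nonempty (L.obj (DCoh.toD X H) ≅ (DCoh.LTensorCx H).obj P₀) := fun H _ => by
    haveI := KFlat.isIso_ltcxCounit_app H P hflip
    exact ⟨KFlat.ltcxIso P hP H ≪≫ DerivedCategory.Q.mapIso (Duality.brIso H P) ≪≫
      (asIso ((KFlat.ltcxCounit H).app P)).symm ≪≫ (DCoh.LTensorCx H).mapIso eP⟩
  let k := m - N - hi
  let G₁ := KFlat.ge G k
  let S₀ : ShortComplex (CochainComplex X.Modules ℤ) :=
    ShortComplex.mk (KFlat.geHom G k) (cokernel.π (KFlat.geHom G k)) (cokernel.condition _)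
  haveI hmono : ∀ p, Mono ((KFlat.geHom G k).f p) := fun p => by
    by_cases hp : k ≤ p
    · haveI := KFlat.isIso_geι G hp
      exact inferInstanceAs (Mono (KFlat.geι G k p))
    · exact ⟨fun g h _ => (KFlat.isZero_geX G (by omega)).eq_of_tgt g h⟩
  haveI : Mono (KFlat.geHom G k) := HomologicalComplex.mono_of_mono_f _ hmono
  have hS₀ : S₀.ShortExact := ⟨S₀.exact_of_g_is_cokernel (cokernelIsCokernel _)⟩
  have hfp : ∀ i, CohB1.IsFP (G₁.X i) := fun i => by
    by_cases hp : k ≤ i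
    · haveI := KFlat.isIso_geι G hp
      exact Groth.Pi1FPDesc.isFP_of_iso (asIso (KFlat.geι G k i)).symm (hGfp i)
    · exact Groth.PropsBasic.LocFree.isFP_of_isFinLocFree _
        (Groth.KTheory.LocFree.isFinLocFree_zero (KFlat.isZero_geX G (by omega)))
  have hfl : ∀ i, FlatMod.IsFlatOver f (G₁.X i) := fun i => by
    by_cases hp : k ≤ i
    · haveI := KFlat.isIso_geι G hp
      exact Groth.DerivedCoh.RelAmp.isFlatOver_of_iso (asIso (KFlat.geι G k i)).symm (hGflat i)
    · intro x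
      haveI : Subsingleton ((G₁.X i).presheaf.stalk x) :=
        AddCommGrpCat.subsingleton_of_isZero ((Groth.QCohMod.stalk x).map_isZero (KFlat.isZero_geX G (by omega)))
      letI := FlatMod.moduleStalkOver f (G₁.X i) x
      exact (inferInstance : Module.Flat (S.presheaf.stalk (f.base x)) ((G₁.X i).presheaf.stalk x))
  have hsp : ∀ i, ClSub.IsProperOver f (CohB1.support (G₁.X i)) := fun i => by
    by_cases hp : k ≤ i
    · haveI := KFlat.isIso_geι G hp
      rw [Groth.QCohMod.support_eq_of_iso (M := G₁.X i) (N := G.X i) (@asIso _ _ _ _ (KFlat.geι G k i) (KFlat.isIso_geι G hp))]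
      exact hGsupp i
    · have he : CohB1.support (G₁.X i) = ∅ := Set.eq_empty_iff_forall_notMem.2 fun x =>
        (Groth.CohTwo.notMem_support_iff _ x).2
          (AddCommGrpCat.subsingleton_of_isZero ((Groth.QCohMod.stalk x).map_isZero (KFlat.isZero_geX G (by omega))))
      rw [he]
      exact Groth.CohDev.isProperOver_mono f (hGsupp i) isClosed_empty (Set.empty_subset _)
  haveI := KFlat.hasLTensorCx G₁
  have h1 : DCoh.IsPerfect ((DCoh.Rpush f).obj (L.obj (DCoh.toD X G₁))) := by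
    obtain ⟨e⟩ := key G₁
    exact isPerfect_of_iso ((DCoh.Rpush f).mapIso e.symm)
      (isPerfect_Rpush_ltcx f P₀ hP₀ G₁ k b (fun i hi => by
        rcases hi with hi | hi
        · exact KFlat.isZero_geX G hi
        · by_cases hp : k ≤ i
          · exact (hGb i hi).of_iso (@asIso _ _ _ _ (KFlat.geι G k i) (KFlat.isIso_geι G hp))
          · exact KFlat.isZero_geX G (by omega)) hfp hfl hsp)
  have hcz : ∀ i, k ≤ i → IsZero (S₀.X₃.X i) := fun i hp => by
    haveI := KFlat.isIso_geι G hp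
    haveI : Epi ((KFlat.geHom G k).f i) := inferInstanceAs (Epi (KFlat.geι G k i))
    exact (isZero_cokernel_of_epi ((KFlat.geHom G k).f i)).of_iso
      (PreservesCokernel.iso (HomologicalComplex.eval X.Modules up i) (KFlat.geHom G k))
  obtain ⟨T₂, hT₂, ⟨b₁⟩, ⟨b₂⟩, ⟨b₃⟩⟩ := Groth.Misc4.QCohDTensor.triTr_ltcx P hP _
    (DerivedCategory.triangleOfSES_distinguished hS₀)
  have hq₃ : DCoh.IsQCohD (L.obj (DCoh.toD X S₀.X₃)) := by
    have hPq : DCoh.IsQCohD (DCoh.toD X P) := Groth.Misc4.QCohDPerf.isQCohD_of_iso eP.symm hP₀q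
    refine Groth.Misc4.QCohDTensor.isQCohD_LTensorCx P hPq
      (isQCohD_third _ (DerivedCategory.triangleOfSES_distinguished hS₀) (isQCohD_toD_qcoh G₁ fun i => ?_) hGD)
    have := hfp i
    infer_instance
  have h₃' : Below m ((DCoh.Rpush f).obj T₂.obj₃) := by
    have hb1 : Below (m - N) (L.obj (DCoh.toD X S₀.X₃)) :=
      ((below_tot S₀.X₃ P k (hi + 1) hcz hP0).of_iso (KFlat.ltcxIso P hP S₀.X₃).symm).mono (by omega)
    exact (hN (m - N) _ (Groth.Misc4.QCohDPerf.isQCohD_of_iso b₃.symm hq₃) (hb1.of_iso b₃.symm)).mono (by omega)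
  obtain ⟨c₂, hc₂⟩ := Groth.DAlg.RFTriangle.exists_distinguished (Scheme.Modules.pushforward f) (DCoh.Rpush f)
    ((DCoh.pushKh f).totalRightDerivedUnit DerivedCategory.Qh (HomotopyCategory.quasiIso X.Modules up)) T₂ hT₂
  obtain ⟨e⟩ := key G
  refine PCoh.isPseudoCoherentD_of_iso ((DCoh.Rpush f).mapIso (b₂ ≪≫ e))
    (PCoh.isPseudoCoherentD_obj₂ _ hc₂ ?_ (isPseudoCoherentD_of_below h₃'))
  exact PCoh.isPseudoCoherentD_of_iso ((DCoh.Rpush f).mapIso b₁.symm)
    (PCoh.isPseudoCoherentD_of_isPerfect h1 m)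

end Groth.DerivedCoh.PerfFP
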