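import Mathlib.RingTheory.LocalRing.Module
import Mathlib.RingTheory.Flat.Basic
import Mathlib.LinearAlgebra.Dimension.Constructions
import Mathlib.LinearAlgebra.Basis.VectorSpace
import Mathlib.LinearAlgebra.TensorProduct.Pi

/-!
A map of finite free modules over a local ring whose kernel is free of rank one and whose special
fibre has one-dimensional kernel has a projective cokernel.
-/

universe u

open TensorProduct IsLocalRing

namespace Groth.DerivedCoh.PerfFP

variable {R : Type u} [CommRing R] [IsLocalRing R] {M N : Type u} [AddCommGroup M] [AddCommGroup N]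
  [Module R M] [Module R N] [Module.Free R M] [Module.Finite R M] [Module.Free R N] [Module.Finite R N]

local notation "κ" => ResidueField R

theorem projective_coker_of_ker_free (d : M →ₗ[R] N) (g : M) (hg : d g = 0)
    (hgen : ∀ x, d x = 0 → ∃ t : R, x = t • g) (hinj : ∀ t : R, t • g = 0 → t = 0)
    (hrk : Module.finrank κ (LinearMap.range (d.baseChange κ)) + 1 =
      Module.finrank R M) :
    Module.Projective R (N ⧸ LinearMap.range d) := by
  classical
  let db := d.baseChange κ
  let n := Module.finrank κ (LinearMap.range db)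
  haveI : Module.Free κ (LinearMap.range db) := Module.Free.of_divisionRing κ (LinearMap.range db)
  let bv : Module.Basis (Fin n) κ (LinearMap.range db) := Module.finBasis κ _
  choose w hw using fun i => (bv i).2
  choose x hx using fun i => TensorProduct.mk_surjective R M κ Ideal.Quotient.mk_surjective (w i)
  let φ : (Fin n → R) →ₗ[R] M := Fintype.linearCombination R x
  have hφ : Function.Injective ((d ∘ₗ φ).lTensor κ) := by
    let π : (κ ⊗[R] (Fin n → R)) ≃ₗ[κ] (Fin n → κ) :=
      TensorProduct.piScalarRight R κ κ (Fin n)
    have hfac : ∀ z, (d ∘ₗ φ).baseChange κ z =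
        ((LinearMap.range db).subtype ∘ₗ (bv.equivFun.symm : (Fin n → κ) →ₗ[κ] _)) (π z) := by
      intro z
      induction z using TensorProduct.induction_on with
      | zero => simp
      | tmul c v =>
        simp only [LinearMap.baseChange_tmul, LinearMap.comp_apply, π, TensorProduct.piScalarRight_apply,
          TensorProduct.piScalarRightHom_tmul, φ, Fintype.linearCombination_apply, map_sum, map_smul]
        rw [TensorProduct.tmul_sum]
        simp only [LinearEquiv.coe_coe, Module.Basis.equivFun_symm_apply, map_sum, map_smul,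
          Submodule.coe_subtype]
        refine Finset.sum_congr rfl fun i _ => ?_
        have h1 : (bv i : κ ⊗[R] N) = (1 : κ) ⊗ₜ[R] d (x i) := by
          rw [← hw i, ← hx i]
          rfl
        rw [h1, TensorProduct.tmul_smul, TensorProduct.smul_tmul', TensorProduct.smul_tmul', smul_eq_mul, mul_one]
      | add a b ha hb => simp [map_add, ha, hb]
    have hb : Function.Injective ((d ∘ₗ φ).baseChange κ) := fun a b hab => by
      rw [hfac, hfac] at hab
      exact π.injective (bv.equivFun.symm.injective (Subtype.coe_injective hab))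
    exact hb
  obtain ⟨r, hr⟩ := (IsLocalRing.split_injective_iff_lTensor_residueField_injective (d ∘ₗ φ)).2 hφ
  let rd := r ∘ₗ d
  let p : M →ₗ[R] LinearMap.ker rd :=
    (LinearMap.id - φ ∘ₗ rd).codRestrict _ fun y => by
      have := LinearMap.congr_fun hr (rd y)
      simp only [LinearMap.mem_ker, LinearMap.sub_apply, map_sub, LinearMap.id_apply, LinearMap.comp_apply]
      exact sub_eq_zero.2 this.symm
  have hp : p ∘ₗ (LinearMap.ker rd).subtype = LinearMap.id := LinearMap.ext fun y => Subtype.ext (by
    change y.1 - φ (rd y.1) = y.1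
    rw [LinearMap.mem_ker.1 y.2, map_zero, sub_zero])
  haveI : Module.Projective R (LinearMap.ker rd) := Module.Projective.of_split _ _ hp
  haveI : Module.Finite R (LinearMap.ker rd) :=
    Module.Finite.of_surjective p fun y => ⟨y, LinearMap.congr_fun hp y⟩
  haveI : Module.Free R (LinearMap.ker rd) := Module.free_of_flat_of_isLocalRing
  let e : M ≃ₗ[R] (Fin n → R) × LinearMap.ker rd :=
    { toLinearMap := rd.prod p
      invFun := fun z => φ z.1 + z.2.1
      left_inv := fun y => by
        change φ (rd y) + (y - φ (rd y)) = y
        abel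
      right_inv := fun z => by
        have h1 : rd (φ z.1) = z.1 := LinearMap.congr_fun hr z.1
        have h2 : rd z.2.1 = 0 := z.2.2
        refine Prod.ext ?_ (Subtype.ext ?_)
        · change rd (φ z.1 + z.2.1) = z.1
          rw [map_add, h1, h2, add_zero]
        · change (φ z.1 + z.2.1) - φ (rd (φ z.1 + z.2.1)) = z.2.1
          rw [map_add, h1, h2, add_zero, add_sub_cancel_left] }
  have hk : Module.finrank R (LinearMap.ker rd) = 1 := by
    have := e.finrank_eq
    rw [Module.finrank_prod, Module.finrank_pi, Fintype.card_fin, ← hrk] at this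
    exact (Nat.add_left_cancel this).symm
  obtain ⟨b⟩ : Nonempty (Module.Basis (Fin 1) R (LinearMap.ker rd)) := ⟨Module.finBasisOfFinrankEq R _ hk⟩
  let m : M := (b 0).1
  have hm : ∀ y : M, rd y = 0 → ∃ t : R, y = t • m := fun y hy => ⟨b.repr ⟨y, hy⟩ 0, by
    have := congrArg Subtype.val (b.sum_repr ⟨y, hy⟩)
    simpa [m] using this.symm⟩
  obtain ⟨a, ha⟩ := hm g (by simp [rd, hg])
  -- the extra direction dies
  have hc : d m = 0 := by
    let B := Module.Free.chooseBasis R N
    have h0 : a • d m = 0 := by rw [← map_smul, ← ha, hg]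
    refine B.repr.injective (Finsupp.ext fun i => ?_)
    have hi : a * B.repr (d m) i = 0 := by
      have := congrArg (fun z => B.repr z i) h0
      simpa using this
    rw [map_zero, Finsupp.zero_apply]
    refine hinj _ ?_
    rw [ha, smul_smul, mul_comm, hi, zero_smul]
  let s : N →ₗ[R] N := LinearMap.id - (d ∘ₗ φ) ∘ₗ r
  refine Module.Projective.of_split ((LinearMap.range d).liftQ s ?_) (LinearMap.range d).mkQ ?_
  · rintro _ ⟨y, rfl⟩
    obtain ⟨t, ht⟩ := hm (y - φ (rd y)) (by
      rw [map_sub]
      exact sub_eq_zero.2 (LinearMap.congr_fun hr (rd y)).symm)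
    change d y - d (φ (rd y)) = 0
    rw [← map_sub, ht, map_smul, hc, smul_zero]
  · refine Submodule.linearMap_qext _ (LinearMap.ext fun y => ?_)
    change Submodule.Quotient.mk (y - d (φ (r y))) = Submodule.Quotient.mk y
    rw [Submodule.Quotient.eq]
    exact ⟨-(φ (r y)), by rw [map_neg]; abel⟩

end Groth.DerivedCoh.PerfFP
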