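import Groth.Agent.DerivedCoh.PerfFP.LocFreePush
import Groth.Agent.DerivedCoh.BaseChange.RelGlobal
import Groth.Agent.DerivedCoh.Fibre.Residue
import Groth.Agent.CohBase.UnitBC

/-!
Degree zero of the derived fibres of `Rf_*O` when the fibres have only constant functions.
-/

universe u

open CategoryTheory CategoryTheory.Limits CategoryTheory.Pretriangulated AlgebraicGeometry HomologicalComplex Opposite

namespace Groth.DerivedCoh.PerfFP

open Groth.DerivedCoh.KFlat (T IsKFlat tmCx ltmQIso pullCx)
open Groth.KTheory.Perf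

attribute [local instance] HasDerivedCategory.standard
set_option linter.style.haveILetI false

local notation "up" => ComplexShape.up ℤ

variable {X S : Scheme.{u}}

/-- `O ⊗^L G ≅ G` -/
theorem nonempty_ltm_unit (G : X.Modules) [DCoh.HasLTensorMod G] :
    Nonempty ((DCoh.LTensorMod G).obj (DCoh.inD X (Coh.structureModule X)) ≅ DCoh.inD X G) := by
  have hP : IsKFlat (T X) ((single X.Modules up 0).obj (Coh.structureModule X)) :=
    Fibre.isKFlat_single (Groth.LocFree.isFinLocFree_unit X) 0
  exact ⟨(DCoh.LTensorMod G).mapIso (RelAmp.singleToDIso _) ≪≫ ltmQIso G _ hP ≪≫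
      DerivedCategory.Q.mapIso ((singleMapHomologicalComplex ((T X).flip.obj G) up 0).app _ ≪≫
        (single X.Modules up 0).mapIso (Groth.CohTwo.LocFreeDual.lUnit.app G)) ≪≫
      (RelAmp.singleToDIso G).symm⟩

/-- `Lg^*O ≅ O` -/
theorem nonempty_lpull_unit {X' : Scheme.{u}} (g : X' ⟶ X) [DCoh.HasLpull g] :
    Nonempty ((DCoh.Lpull g).obj (DCoh.inD X (Coh.structureModule X)) ≅ DCoh.inD X' (Coh.structureModule X')) := by
  have hP : IsKFlat (T X) ((single X.Modules up 0).obj (Coh.structureModule X)) :=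
    Fibre.isKFlat_single (Groth.LocFree.isFinLocFree_unit X) 0
  obtain ⟨u⟩ := Groth.PicAux.pullback_structure_iso g
  exact ⟨(DCoh.Lpull g).mapIso (RelAmp.singleToDIso _) ≪≫ KFlat.lpullQIso g _ hP ≪≫
    DerivedCategory.Q.mapIso ((singleMapHomologicalComplex (Scheme.Modules.pullback g) up 0).app _ ≪≫
      (single X'.Modules up 0).mapIso u) ≪≫ (RelAmp.singleToDIso _).symm⟩

/-- `H⁰(Rf_*M) = f_*M` -/
theorem nonempty_hd_zero (f : X ⟶ S) [DCoh.HasRpush f] (M : X.Modules) :
    Nonempty (DCoh.HD ((DCoh.Rpush f).obj (DCoh.inD X M)) 0 ≅ (Coh.push f).obj M) := by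
  obtain ⟨e⟩ := Groth.Misc4.RFBounded.nonempty_homology_single (Scheme.Modules.pushforward f) (DCoh.Rpush f)
    ((DCoh.pushKh f).totalRightDerivedUnit DerivedCategory.Qh (HomotopyCategory.quasiIso X.Modules up)) M 0 0 0
    (zero_add _)
  exact ⟨e ≪≫ ((Scheme.Modules.pushforward f).rightDerivedZeroIsoSelf).app M⟩

theorem fiberRank_one (f : X ⟶ S) (s : S) (h : IsIso (f.fiberToSpecResidueField s).appTop) :
    CohIII.fiberRank f (Coh.structureModule X) 0 s = 1 := by
  rw [Groth.CohBase.fiberRank_zero_structure]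
  haveI := h
  have hb : Function.Bijective ((f.fiberToSpecResidueField s).appTop ∘
      (Scheme.ΓSpecIso (S.residueField s)).inv) :=
    (ConcreteCategory.bijective_of_isIso _).comp (ConcreteCategory.bijective_of_isIso _)
  let l := Algebra.linearMap (S.residueField s) Γ(f.fiber s, ⊤)
  exact (LinearEquiv.ofBijective l hb).finrank_eq.symm.trans (Module.finrank_self _)

variable (f : X ⟶ S) [IsProper f] [Flat f] [LocallyOfFinitePresentation f]

/-- the unit of a family with constant functions on the fibres -/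
theorem isIso_pushUnit (h : ∀ s : S, IsIso (f.fiberToSpecResidueField s).appTop) :
    IsIso (Groth.PicAux.pushUnit f) :=
  Groth.CohBase.isIso_pushUnit_of_fiberRank f fun y => fiberRank_one f y (h y)

/-- the degree zero derived fibre of `Rf_*O` is a line -/
theorem betti_zero [∀ x : S, DCoh.HasLpull (S.fromSpecResidueField x)] [DCoh.HasRpush f]
    (h : ∀ s : S, IsIso (f.fiberToSpecResidueField s).appTop) (s : S) :
    PerfD.betti ((DCoh.Rpush f).obj (DCoh.inD X (Coh.structureModule X))) s 0 = 1 := by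
  let O := Coh.structureModule X
  haveI hq : (Coh.structureModule X).IsQuasicoherent := Groth.KTheory.LocFree.isQCoh (Groth.LocFree.isFinLocFree_unit X)
  have sq : IsPullback (f.fiberι s) (f.fiberToSpecResidueField s) f (S.fromSpecResidueField s) :=
    IsPullback.of_hasPullback f (S.fromSpecResidueField s)
  haveI := KFlat.hasLTensorMod O
  haveI := KFlat.hasLTensorMod ((Scheme.Modules.pullback (f.fiberι s)).obj O)
  haveI : DCoh.HasLpull (f.fiberι s) := KFlat.hasLpull _
  haveI : DCoh.HasRpush (f.fiberToSpecResidueField s) := Groth.Misc4.PushRestrict.hasRightDerived _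
  obtain ⟨b⟩ := BaseChange.nonempty_baseChange_flatOver sq (DCoh.inD X O)
    (Groth.Misc4.QCohDColim.isQCohD_single O 0) O hq (Groth.FBaseGeom.isFlatOver_structureModule f)
  obtain ⟨l⟩ := nonempty_ltm_unit (X := X) O
  obtain ⟨p⟩ := nonempty_lpull_unit (f.fiberι s)
  obtain ⟨l'⟩ := nonempty_ltm_unit ((Scheme.Modules.pullback (f.fiberι s)).obj O)
  obtain ⟨u⟩ := Groth.PicAux.pullback_structure_iso (f.fiberι s)
  haveI := Groth.CohBase.isIso_pushUnit_fiber f s (fiberRank_one f s (h s))
  obtain ⟨z⟩ := nonempty_hd_zero (f.fiberToSpecResidueField s) (Coh.structureModule (f.fiber s))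
  let F := DCoh.Rpush (f.fiberToSpecResidueField s)
  let i : DCoh.HD ((DCoh.Lpull (S.fromSpecResidueField s)).obj ((DCoh.Rpush f).obj (DCoh.inD X O))) 0 ≅
      Coh.structureModule (Spec (S.residueField s)) :=
    (DerivedCategory.homologyFunctor _ 0).mapIso
      ((DCoh.Lpull _).mapIso ((DCoh.Rpush f).mapIso l.symm) ≪≫ b ≪≫
        F.mapIso ((DCoh.LTensorMod _).mapIso p ≪≫ l' ≪≫ (DerivedCategory.singleFunctor _ 0).mapIso u)) ≪≫
      z ≪≫ (asIso (Groth.PicAux.pushUnit (f.fiberToSpecResidueField s))).symm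
  let e := ((PresheafOfModules.evaluation _ (op (⊤ : (Spec (S.residueField s)).Opens))).mapIso
    ((SheafOfModules.forget _).mapIso i)).toLinearEquiv
  unfold PerfD.betti
  refine e.finrank_eq.trans ?_
  haveI : Nontrivial Γ(Spec (S.residueField s), ⊤) :=
    (Scheme.ΓSpecIso (S.residueField s)).commRingCatIsoToRingEquiv.toEquiv.nontrivial
  haveI : StrongRankCondition (Coh.Γtop (Spec (S.residueField s))) :=
    (commRing_strongRankCondition Γ(Spec (S.residueField s), ⊤) :)
  exact Module.finrank_self (Coh.Γtop (Spec (S.residueField s)))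

end Groth.DerivedCoh.PerfFP
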