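import Groth.Agent.DerivedCoh.PerfFP.SplitAlg
import Groth.Agent.DerivedCoh.PerfFP.SplitH0Fibre
import Groth.Agent.DerivedCoh.PCoh.TopCohomology
import Groth.Agent.S7765
import Groth.Agent.DerivedCoh.PCohDescent.Main
import Groth.Agent.DerivedCoh.PerfFP.FlatBC

/-!
`Rf_*O ≅ O ⊕ P` locally, with `P` perfect in degrees `≥ 1`.
-/

universe u

open CategoryTheory CategoryTheory.Limits CategoryTheory.Pretriangulated AlgebraicGeometry HomologicalComplex

namespace Groth.DerivedCoh.PerfFP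

open Groth.DerivedCoh.KFlat (stk)
open Groth.DerivedCoh.Fibre (bRes resS fibF)
open Groth.KTheory.Perf

attribute [local instance] HasDerivedCategory.standard
set_option linter.style.haveILetI false

local notation "up" => ComplexShape.up ℤ

variable {U : Scheme.{u}}

/-- the stalk of the structure module -/
theorem nonempty_stalk_unit (v : U) :
    Nonempty ((stk v).obj (Coh.structureModule U) ≃ₗ[U.presheaf.stalk v] U.presheaf.stalk v) := by
  haveI : Module.Free (U.presheaf.stalk v) ((Coh.structureModule U).presheaf.stalk v) :=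
    Groth.PropsBasic.LocFree.free_stalk _ (Groth.LocFree.isFinLocFree_unit U) v
  haveI : Module.Finite (U.presheaf.stalk v) ((Coh.structureModule U).presheaf.stalk v) :=
    Groth.LocFree.finite_stalk (Groth.LocFree.isFinLocFree_unit U) v
  exact ⟨(Module.finBasisOfFinrankEq _ _ (Groth.LocFree.finrank_stalk
    (Groth.LocFree.isFinLocFreeOfRank_unit U) v)).equivFun.trans (LinearEquiv.funUnique (Fin 1) _ _)⟩

variable {E : CochainComplex U.Modules ℤ} (hfl : ∀ i, FlatMod.IsFinLocFree (E.X i))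

include hfl in
/-- the cokernel of the first differential is free at a point -/
theorem free_stalk_coker (hneg : IsZero (E.X (-1))) (h0 : E.homology 0 ≅ Coh.structureModule U) (v : U)
    (hb : bRes E v 0 = 1) :
    Module.Free (U.presheaf.stalk v) ((stk v).obj (cokernel (E.d 0 1))) := by
  let R := U.presheaf.stalk v
  let κ := IsLocalRing.ResidueField R
  let C := ((stk v).mapHomologicalComplex up).obj E
  have fin : ∀ q, Module.Finite R (C.X q) := fun q => Groth.LocFree.finite_stalk (hfl q) v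
  have free : ∀ q, Module.Free R (C.X q) := fun q =>
    Groth.PropsBasic.LocFree.free_stalk _ (hfl q) v
  haveI := fin 0; haveI := free 0; haveI := fin 1; haveI := free 1
  haveI hsub : Subsingleton (C.X (-1)) :=
    ModuleCat.subsingleton_of_isZero ((stk v).map_isZero hneg)
  obtain ⟨u⟩ := nonempty_stalk_unit v
  have hbot : (LinearMap.range (C.d (-1) 0).hom).comap (LinearMap.ker (C.d 0 1).hom).subtype = ⊥ := by
    rw [Submodule.eq_bot_iff]
    rintro ⟨y, hy⟩ ⟨x, hx⟩
    rw [Subsingleton.elim x 0, map_zero] at hx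
    exact Subtype.ext hx.symm
  let eK : LinearMap.ker (C.d 0 1).hom ≃ₗ[R] R :=
    (Submodule.quotEquivOfEqBot _ hbot).symm.trans
      ((Groth.FlatCxBase.homologyEquivQuot C (Groth.FlatCxBase.cochain_prev 0)
        (Groth.FlatCxBase.cochain_next 0)).trans
        ((((E.sc 0).mapHomologyIso (stk v)) ≪≫ (stk v).mapIso h0).toLinearEquiv.trans u))
  let g : C.X 0 := (eK.symm 1).1
  have hrk : Module.finrank κ (LinearMap.range ((C.d 0 1).hom.baseChange κ)) + 1 =
      Module.finrank R (C.X 0) := by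
    have h1 : Module.finrank κ ((CohIII.bcCx (algebraMap R κ) C).homology 0) +
        Module.finrank κ (LinearMap.range ((C.d (0 - 1) 0).hom.baseChange κ)) +
        Module.finrank κ (LinearMap.range ((C.d 0 (0 + 1)).hom.baseChange κ)) =
        Module.finrank R (C.X 0) :=
      Groth.Agent.S7765.finrank_homology_add C (fun j => ⟨fin j, free j⟩) 0 κ
    have hh : Module.finrank κ ((CohIII.bcCx (algebraMap R κ) C).homology 0) = 1 := hb
    have hr : LinearMap.range ((C.d (0 - 1) 0).hom.baseChange κ) = ⊥ := by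
      haveI : Subsingleton (C.X (0 - 1)) := hsub
      have hz : (C.d (0 - 1) 0).hom = 0 := LinearMap.ext fun x => by
        rw [Subsingleton.elim x 0]; exact map_zero _
      rw [hz, LinearMap.baseChange_zero, LinearMap.range_zero]
    rw [hh, hr, finrank_bot, add_zero, add_comm 1] at h1
    exact h1
  haveI : Module.Projective R (C.X 1 ⧸ LinearMap.range (C.d 0 1).hom) :=
    projective_coker_of_ker_free (C.d 0 1).hom g (eK.symm 1).2
      (fun x hx => ⟨eK ⟨x, hx⟩, by
        have h2 : (⟨x, hx⟩ : LinearMap.ker (C.d 0 1).hom) = eK ⟨x, hx⟩ • eK.symm 1 := by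
          apply eK.injective
          rw [map_smul, eK.apply_symm_apply, smul_eq_mul, mul_one]
        exact congrArg Subtype.val h2⟩)
      (fun t ht => by
        have h2 : t • eK.symm 1 = 0 := Subtype.ext ht
        have h3 := congrArg eK h2
        rwa [map_smul, eK.apply_symm_apply, smul_eq_mul, mul_one, map_zero] at h3)
      hrk
  haveI : Module.Free R (C.X 1 ⧸ LinearMap.range (C.d 0 1).hom) := Module.free_of_flat_of_isLocalRing
  exact Module.Free.of_equiv ((ModuleCat.cokernelIsoRangeQuotient (C.d 0 1)).symm ≪≫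
    (PreservesCokernel.iso (stk v) (E.d 0 1)).symm).toLinearEquiv

include hfl in
theorem isFinLocFree_coker_of_bRes (hneg : IsZero (E.X (-1))) (h0 : E.homology 0 ≅ Coh.structureModule U)
    (hb : ∀ v, bRes E v 0 = 1) : FlatMod.IsFinLocFree (cokernel (E.d 0 1)) := by
  refine PCoh.isFinLocFree_coker (hfl 0) (hfl 1) _ fun v => ?_
  have := free_stalk_coker hfl hneg h0 v (hb v)
  exact show Module.Flat (U.presheaf.stalk v) ((stk v).obj (cokernel (E.d 0 1))) from inferInstance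

include hfl in
/-- truncation splits off locally -/
theorem exists_split {N : ℤ} (hN : 1 ≤ N) (hout : DCoh.VanishesOutside E 0 N)
    (h0 : E.homology 0 ≅ Coh.structureModule U) (hb : ∀ v, bRes E v 0 = 1) (v : U) :
    ∃ (W : U.Opens) (C : CochainComplex (W : Scheme.{u}).Modules ℤ), v ∈ W ∧
      DCoh.IsStrictlyPerfect C ∧ DCoh.VanishesOutside C 1 N ∧
      ∀ [HasBinaryBiproduct (DCoh.inD (W : Scheme.{u}) (Coh.structureModule _)) (DCoh.toD _ C)],
        Nonempty ((Rd W.ι).obj (DCoh.toD U E) ≅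
          DCoh.inD (W : Scheme.{u}) (Coh.structureModule _) ⊞ DCoh.toD _ C) := by
  have hneg : IsZero (E.X (-1)) := hout _ (.inl (by omega))
  let C := E.truncGE 1
  have hC0 : DCoh.VanishesOutside C 1 N := fun i hi => by
    rcases hi with hi | hi
    · exact C.isZero_of_isStrictlyGE 1 i hi
    · exact (E.truncGEXIso 1 i (by lia)).isZero_iff.2 (hout i (.inr hi))
  have hC : DCoh.IsStrictlyPerfect C := by
    refine ⟨⟨1, N, hC0⟩, fun i => ?_⟩
    rcases lt_trichotomy i 1 with hi | rfl | hi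
    · exact Groth.KTheory.LocFree.isFinLocFree_zero (C.isZero_of_isStrictlyGE 1 i hi)
    · exact Groth.KTheory.LocFree.isFinLocFree_of_iso
        (E.truncGEXIsoOpcycles 1 ≪≫ IsColimit.coconePointUniqueUpToIso (E.opcyclesIsCokernel 0 1 (by simp))
          (cokernelIsCokernel _)).symm
        (isFinLocFree_coker_of_bRes hfl hneg h0 hb)
    · exact Groth.KTheory.LocFree.isFinLocFree_of_iso (E.truncGEXIso 1 i hi).symm (hfl i)
  -- the truncation triangle
  have hses := E.shortComplexTruncLE_shortExact 0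
  let c := DerivedCategory.Q.map (E.shortComplexTruncLEX₃ToTruncGE 0 1 (by lia))
  haveI : IsIso c := inferInstanceAs (IsIso (DerivedCategory.Q.map _))
  let A : DCoh.D U := DerivedCategory.Q.obj (E.truncLE 0)
  let δ : DerivedCategory.Q.obj C ⟶ A⟦(1 : ℤ)⟧ := inv c ≫ (DerivedCategory.triangleOfSES hses).mor₃
  let Tr : Triangle (DCoh.D U) :=
    Triangle.mk (DerivedCategory.Q.map (E.ιTruncLE 0)) (DerivedCategory.Q.map (E.πTruncGE 1)) δ
  have hTr : Tr ∈ distTriang _ := by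
    refine isomorphic_distinguished _ (DerivedCategory.triangleOfSES_distinguished hses) _ (Iso.symm ?_)
    refine Triangle.isoMk _ _ (Iso.refl _) (Iso.refl _) (@asIso _ _ _ _ c ‹IsIso c›) ?_ ?_ ?_
    · exact (Category.comp_id _).trans (Category.id_comp _).symm
    · refine ((DerivedCategory.Q.map_comp _ _).symm.trans
        (congrArg DerivedCategory.Q.map (E.g_shortComplexTruncLEX₃ToTruncGE 0 1 (by lia)))).trans ?_
      exact (Category.id_comp _).symm
    · refine (congrArg (_ ≫ ·) (CategoryTheory.Functor.map_id _ _)).trans ((Category.comp_id _).trans ?_)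
      exact (IsIso.hom_inv_id_assoc c _).symm
  -- the bottom piece is `O`
  haveI : E.IsStrictlyGE 0 := (CochainComplex.isStrictlyGE_iff E 0).2 fun i hi => hout i (.inl hi)
  haveI : A.IsGE 0 := (DerivedCategory.isGE_iff A 0).2 fun i hi =>
    (HomologicalComplex.ExactAt.of_isZero ((E.truncLEXIso 0 i hi).isZero_iff.2
      (hout i (.inl hi)))).isZero_homology.of_iso (KFlat.hdIso _ i)
  haveI : A.IsLE 0 := (inferInstance : (DerivedCategory.Q.obj (E.truncLE 0)).IsLE 0)
  obtain ⟨M, ⟨eM⟩⟩ := DerivedCategory.exists_iso_singleFunctor_obj_of_isGE_of_isLE A 0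
  let eO : M ≅ Coh.structureModule U :=
    ((DerivedCategory.singleFunctorCompHomologyFunctorIso U.Modules 0).app M).symm ≪≫
      (DerivedCategory.homologyFunctor _ 0).mapIso eM.symm ≪≫ KFlat.hdIso _ 0 ≪≫
      asIso (HomologicalComplex.homologyMap (E.ιTruncLE 0) 0) ≪≫ h0
  let eA : A ≅ DCoh.inD U (Coh.structureModule U) :=
    eM ≪≫ (DerivedCategory.singleFunctor _ 0).mapIso eO
  -- the connecting map vanishes locally
  have hbelow : PCoh.Below 1 (A⟦(1 : ℤ)⟧) := fun i hi =>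
    (DerivedCategory.isZero_of_isLE A 0 (i + 1) (by omega)).of_iso
      ((PCoh.hShiftIso 1 i (i + 1) (add_comm _ _)).app A)
  obtain ⟨W, hW, hδ⟩ := PCoh.exists_map_eq_zero hC (fun i hi => hC0 i (.inl hi)) hbelow δ v
  refine ⟨W, (Rc W.ι).obj C, hW, rc_isStrictlyPerfect _ hC, fun i hi => rc_isZero _ (hC0 i hi), ?_⟩
  intro _
  obtain ⟨u⟩ := Groth.PicAux.pullback_structure_iso W.ι
  let eW : (Rd W.ι).obj A ≅ DCoh.inD (W : Scheme.{u}) (Coh.structureModule _) :=
    (Rd W.ι).mapIso eA ≪≫ PCoh.rdInDIso W.ι _ ≪≫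
      (DerivedCategory.singleFunctor _ 0).mapIso
        ((Scheme.Modules.restrictFunctorIsoPullback W.ι).app _ ≪≫ u)
  let eC : (Rd W.ι).obj (DerivedCategory.Q.obj C) ≅ DCoh.toD _ ((Rc W.ι).obj C) := rdQIso _ C
  haveI : HasBinaryBiproducts (DCoh.D (W : Scheme.{u})) :=
    HasBinaryBiproducts.of_hasBinaryProducts
  obtain ⟨e, -⟩ := exists_iso_binaryBiproduct_of_distTriang ((Rd W.ι).mapTriangle.obj Tr)
    ((Rd W.ι).map_distinguished Tr hTr) (by
      change (Rd W.ι).map δ ≫ _ = 0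
      rw [hδ, zero_comp])
  exact ⟨e ≪≫ biprod.mapIso eW eC⟩

set_option maxHeartbeats 1000000 in
/-- `Rf_*O ≅ O ⊕ P` locally -/
theorem exists_Rpush_split {X S : Scheme.{u}} (f : X ⟶ S) [IsProper f] [Flat f]
    [LocallyOfFinitePresentation f] (h : ∀ s : S, IsIso (f.fiberToSpecResidueField s).appTop) (s : S) :
    ∃ (V : S.Opens) (b : ℤ) (C : CochainComplex (V : Scheme.{u}).Modules ℤ), s ∈ V ∧
      DCoh.IsStrictlyPerfect C ∧ DCoh.VanishesOutside C 1 b ∧
      ∀ [DCoh.HasRpush (f ∣_ V)] [∀ A B : DCoh.D (V : Scheme.{u}), HasBinaryBiproduct A B],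
        Nonempty ((DCoh.Rpush (f ∣_ V)).obj (DCoh.inD (f ⁻¹ᵁ V : Scheme.{u}) (Coh.structureModule _)) ≅
          DCoh.inD (V : Scheme.{u}) (Coh.structureModule _) ⊞ DCoh.toD _ C) := by
  haveI : DCoh.HasRpush f := Groth.Misc4.PushRestrict.hasRightDerived _
  haveI := fun x : S => KFlat.hasLpull (S.fromSpecResidueField x)
  let O := Coh.structureModule X
  have hfp : CohB1.IsFP O :=
    Groth.PropsBasic.LocFree.isFP_of_isFinLocFree _ (Groth.LocFree.isFinLocFree_unit X)
  haveI : O.IsQuasicoherent := Groth.KTheory.LocFree.isQCoh (Groth.LocFree.isFinLocFree_unit X)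
  let R := (DCoh.Rpush f).obj (DCoh.inD X O)
  have hflat : FlatMod.IsFlatOver f O := Groth.FBaseGeom.isFlatOver_structureModule f
  have hR : DCoh.IsPerfect R := isPerfect_Rpush_inD f O hfp hflat (isProperOver_support f hfp)
  -- amplitude over an affine open
  obtain ⟨V₀, hV₀, hs₀, -⟩ := exists_isAffineOpen_mem_and_subset (show s ∈ (⊤ : S.Opens) from trivial)
  haveI : IsAffine (V₀ : Scheme.{u}) := hV₀
  haveI : DCoh.HasRpush (f ∣_ V₀) := Groth.Misc4.PushRestrict.hasRightDerived _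
  have hqc : DCoh.IsQCohD (DCoh.inD X O) := Groth.Misc4.QCohDColim.isQCohD_single O 0
  obtain ⟨N₀, -, hN₀⟩ := Groth.Misc4.QCohCd.exists_isZero_HD (f := f ∣_ V₀)
  haveI : ((DCoh.Rpush (f ∣_ V₀)).obj ((Rd (f ⁻¹ᵁ V₀).ι).obj (DCoh.inD X O))).IsLE (max N₀ 1) :=
    (DerivedCategory.isLE_iff _ _).2 fun m hm =>
      hN₀ _ (Groth.Misc4.QCohDPerf.isQCohD_restrict _ hqc) 0
        ((DerivedCategory.isLE_iff _ _).2 fun i hi =>
          (DerivedCategory.isZero_of_isLE _ 0 i hi).of_iso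
            ((DerivedCategory.homologyFunctor _ i).mapIso (PCoh.rdInDIso (f ⁻¹ᵁ V₀).ι O))) m (by omega)
  have hA : ∀ x, RelAmp.AmpAt f 0 0 (DCoh.inD X O) x := fun x => RelAmp.AmpAt.of_iso
    ((RelAmp.hasTorAmplitude_iff _ 0 0).1 ((RelAmp.hasTorAmplitude_single_iff f O).2 hflat) x)
    (RelAmp.singleToDIso O).symm
  obtain ⟨F, ⟨eF⟩⟩ := exists_rep ((Rd V₀.ι).obj R)
  have hamp : DCoh.HasFlatAmplitudeIn 0 (max N₀ 1) ((Rd V₀.ι).obj R) :=
    StalkAmp.flatAmp_of_stalkAmp (StalkAmp.HasStalkAmp.of_iso eF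
      ((StalkAmp.hasTorAmplitude_id_iff F 0 _).1 (RelAmp.hasTorAmplitude_of_comp _ V₀.ι F
        (RelAmp.hasTorAmplitude_congr (show V₀.ι ≫ 𝟙 S = 𝟙 (V₀ : Scheme.{u}) ≫ V₀.ι by simp)
          ((RelAmp.hasTorAmplitude_iff F 0 _).2 fun v =>
            ((RelAmp.ampAt_rd_iff V₀.ι v (𝟙 S) R 0 _).2 (RelAmp.ampAt_Rpush_local f (𝟙 S) f
              (Category.comp_id f) (DCoh.inD X O) hqc hV₀ V₀ le_rfl (fun x _ => hA x) _ v.2)).of_iso
              eF.symm)))))
  have hperf := (StalkAmp.hasPerfectAmplitudeIn_iff _ _ _).1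
    ((StalkAmp.perfectAmplitude_iff ((Rd V₀.ι).obj R) 0 (max N₀ 1) (by omega)).2
      ⟨PCoh.isPseudoCoherentD_of_isPerfect (PCohDescent.isPerfect_rd _ hR) _, hamp⟩)
  obtain ⟨V₁, hs₁, E, hout, hfl, ⟨e⟩⟩ := hperf ⟨s, hs₀⟩
  let j := V₁.ι ≫ V₀.ι
  obtain ⟨k₁⟩ := nonempty_rdComp (k := V₁.ι) (j := V₀.ι) (l := j) rfl R
  let a : (Rd j).obj R ≅ DCoh.toD _ E := k₁ ≪≫ e
  -- bottom cohomology
  obtain ⟨z⟩ := nonempty_hd_zero f O
  haveI := isIso_pushUnit f h
  obtain ⟨r⟩ := nonempty_hdRd j R 0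
  obtain ⟨u⟩ := Groth.PicAux.pullback_structure_iso j
  let h0 : E.homology 0 ≅ Coh.structureModule _ :=
    (KFlat.hdIso E 0).symm ≪≫ (DerivedCategory.homologyFunctor _ 0).mapIso a.symm ≪≫ r ≪≫
      (Scheme.Modules.restrictFunctor j).mapIso (z ≪≫ (asIso (Groth.PicAux.pushUnit f)).symm) ≪≫
      (Scheme.Modules.restrictFunctorIsoPullback j).app _ ≪≫ u
  have hb : ∀ v, bRes E v 0 = 1 := fun v => by
    rw [← Fibre.bRes_eq_betti_of_near R j ⟨⟨0, _, hout⟩, hfl⟩ a.inv
      (PCoh.near_of_isIso (m := -1) a.inv) v 0 (by omega)]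
    exact betti_zero f h (j v)
  obtain ⟨W, C, hsW, hC, hC1, hsplit⟩ := exists_split hfl (le_max_right N₀ 1) hout h0 hb ⟨⟨s, hs₀⟩, hs₁⟩
  let l := W.ι ≫ j
  let k := l.isoOpensRange.inv
  refine ⟨l.opensRange, max N₀ 1, (Rc k).obj C, ⟨⟨⟨⟨s, hs₀⟩, hs₁⟩, hsW⟩, rfl⟩,
    rc_isStrictlyPerfect _ hC, fun i hi => rc_isZero _ (hC1 i hi), ?_⟩
  intro _ _
  haveI : HasBinaryBiproducts (DCoh.D (W : Scheme.{u})) :=
    HasBinaryBiproducts.of_hasBinaryProducts
  obtain ⟨e'⟩ := hsplit
  obtain ⟨c⟩ := Groth.Misc4.PushRestrict.restrictD_Rpush_iso f l.opensRange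
  obtain ⟨k₂⟩ := nonempty_rdComp (k := W.ι) (j := j) (l := l) rfl R
  obtain ⟨k₃⟩ := nonempty_rdComp (k := k) (j := l) (l := l.opensRange.ι)
    (l.isoOpensRange_inv_comp).symm R
  obtain ⟨uX⟩ := Groth.PicAux.pullback_structure_iso (f ⁻¹ᵁ l.opensRange).ι
  obtain ⟨uk⟩ := Groth.PicAux.pullback_structure_iso k
  haveI : PreservesBinaryBiproducts (Rd k) := preservesBinaryBiproducts_of_preservesBiproducts _
  exact ⟨(DCoh.Rpush _).mapIso ((DerivedCategory.singleFunctor _ 0).mapIso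
      (((Scheme.Modules.restrictFunctorIsoPullback (f ⁻¹ᵁ l.opensRange).ι).app _ ≪≫ uX).symm) ≪≫
      (PCoh.rdInDIso _ O).symm) ≪≫ (c.app (DCoh.inD X O)).symm ≪≫ k₃ ≪≫
    (Rd k).mapIso (k₂ ≪≫ (Rd W.ι).mapIso a ≪≫ e') ≪≫
    (Rd k).mapBiprod _ _ ≪≫ biprod.mapIso (PCoh.rdInDIso k _ ≪≫
      (DerivedCategory.singleFunctor _ 0).mapIso
        ((Scheme.Modules.restrictFunctorIsoPullback k).app _ ≪≫ uk)) (rdQIso k C)⟩

end Groth.DerivedCoh.PerfFP
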